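import Cfsg.Agent.H478.SporCore
import Cfsg.Agent.CpAutCoOneFive.TwoPr
import Cfsg.Agent.Co2Type.Mono
import Cfsg.Agent.BpSpor.Transfer
import Cfsg.Agent.S0398
import Cfsg.Agent.NotCT.Orders

/-!
# `Core` for `Co₁` and `Co₂` (helper478)

`comm_free` : elements of prime orders `p ≠ q` of `Co0` with `p + q > 26` do not commute.
-/

set_option autoImplicit false

namespace Cfsg.Agent.H478.SporConway

open Cfsg Polynomial Module Cfsg.Agent.SporadicStructure.Co0Base
open Cfsg.Agent.SigZeroCo2.Lin Cfsg.Agent.CpAutBig Cfsg.Agent.CpAutBig.TwoPrimes Cfsg.Agent.CpAutCoOneFive.TwoPr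

/-- the space of the fixed vectors of an element of prime order -/
theorem finrank_ker_le {p : ℕ} (hp : p.Prime) {x : Co0} (hx : orderOf x = p) :
    finrank ℚ (LinearMap.ker (rep x - 1)) + (p - 1) ≤ finrank ℚ Sp := by
  have hx1 : rep x ≠ 1 := by
    intro h
    have h1 : x = 1 := rep_injective (by rw [h, map_one])
    rw [h1, orderOf_one] at hx
    exact hp.one_lt.ne hx
  obtain ⟨v, hv⟩ : ∃ v, rep x v ≠ v := by
    by_contra h
    push Not at h
    exact hx1 (LinearMap.ext h)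
  have hpow : rep x ^ p = 1 := by rw [← map_pow, ← hx, pow_orderOf_eq_one, map_one]
  have hR : ∀ w ∈ LinearMap.range (rep x - 1), rep x w ∈ LinearMap.range (rep x - 1) := by
    rintro _ ⟨w, rfl⟩
    exact ⟨rep x w, by
      show rep x (rep x w) - rep x w = rep x (rep x w - w)
      rw [map_sub]⟩
  have h1 : aeval (rep x) (cyclotomic p ℚ) ((rep x - 1) v) = 0 := by
    have h2 : cyclotomic p ℚ * (X - 1) = X ^ p - 1 := @cyclotomic_prime_mul_X_sub_one ℚ _ p ⟨hp⟩
    have h3 := congrArg (fun P : ℚ[X] => aeval (rep x) P v) h2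
    simp only [map_mul, map_sub, map_pow, aeval_X, map_one] at h3
    rw [hpow, sub_self] at h3
    exact h3
  have h2 := totient_le_sub (rep x) (LinearMap.range (rep x - 1)) hR hp.pos
    (u := (rep x - 1) v) (sub_ne_zero.2 hv) ⟨v, rfl⟩ h1
  rw [Nat.totient_prime hp] at h2
  have h3 := LinearMap.finrank_range_add_finrank_ker (rep x - 1)
  omega

/-- elements of prime orders `p ≠ q`, `24 < (p - 1) + (q - 1)`, of `Co0` do not commute -/
theorem ncomm {p q : ℕ} (hp : p.Prime) (hq : q.Prime) (hpq : p ≠ q) (h1 : 24 < (p - 1) + (q - 1))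
    (h2 : 24 < (q - 1) * (p - 1)) {x y : Co0} (hx : orderOf x = p) (hy : orderOf y = q) : x * y ≠ y * x := by
  intro hc
  have hfin := CoZero.finite_co0
  have h3 := finrank_ker_le hp hx
  have h4 : finrank ℚ Sp = 24 := by
    rw [Module.finrank_fintype_fun_eq_card]
    rfl
  rw [h4] at h3
  refine CpAutCoOneFive.TwoPr.not_dvd hp hq hpq hx (by omega) (by omega) ?_
  have h5 : y ∈ Subgroup.centralizer ({x} : Set Co0) := Subgroup.mem_centralizer_singleton_iff.2 hc.symm
  have h6 := orderOf_dvd_natCard (⟨y, h5⟩ : Subgroup.centralizer ({x} : Set Co0))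
  rwa [Subgroup.orderOf_mk, hy] at h6

/-- commuting elements of odd orders of a quotient by a central subgroup of order 2 have commuting lifts -/
theorem exists_lifts {H : Type*} [Group H] [Finite H] {Z : Subgroup H} [Z.Normal] (hZ : Z ≤ Subgroup.center H)
    (hZ2 : Nat.card ↥Z = 2) {p q : ℕ} (hp : p.Prime) (hq : q.Prime) (hp2 : p ≠ 2) (hq2 : q ≠ 2) {x y : H ⧸ Z}
    (hx : orderOf x = p) (hy : orderOf y = q) (hc : x * y = y * x) :
    ∃ a b : H, orderOf a = p ∧ orderOf b = q ∧ a * b = b * a := by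
  have hp' : (Nat.card ↥Z).Coprime p := by
    rw [hZ2]
    exact (Nat.coprime_primes Nat.prime_two hp).2 (Ne.symm hp2)
  have hq' : (Nat.card ↥Z).Coprime q := by
    rw [hZ2]
    exact (Nat.coprime_primes Nat.prime_two hq).2 (Ne.symm hq2)
  obtain ⟨a, ha, rfl⟩ := BpSpor.Transfer.exists_lift hp Z hp' hx
  obtain ⟨b, hb, rfl⟩ := BpSpor.Transfer.exists_lift hq Z hq' hy
  refine ⟨a, b, ha, hb, ?_⟩
  -- `a b a⁻¹ = z b`
  have h1 : a * b * a⁻¹ * b⁻¹ ∈ Z := by
    rw [← QuotientGroup.ker_mk' Z, MonoidHom.mem_ker]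
    rw [map_mul, map_mul, map_mul, map_inv, map_inv, hc]
    group
  obtain ⟨z, hz⟩ : ∃ z, z = a * b * a⁻¹ * b⁻¹ := ⟨_, rfl⟩
  rw [← hz] at h1
  have h2 : a * b * a⁻¹ = z * b := by rw [hz]; group
  have hzc : Commute z b := ((Subgroup.mem_center_iff.1 (hZ h1)) b).symm
  have h3 : z ^ q = 1 := by
    have h4 : (a * b * a⁻¹) ^ q = z ^ q * b ^ q := by rw [h2, hzc.mul_pow]
    have h5 : b ^ q = 1 := by rw [← hb, pow_orderOf_eq_one]
    rw [conj_pow, h5, mul_one, mul_one, mul_inv_cancel] at h4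
    exact h4.symm
  have h4 : z ^ 2 = 1 := by
    have h5 : (⟨z, h1⟩ : ↥Z) ^ Nat.card ↥Z = 1 := pow_card_eq_one'
    rw [hZ2] at h5
    exact congrArg Subtype.val h5
  have h5 : z = 1 := by
    have h6 : orderOf z ∣ 2 := orderOf_dvd_of_pow_eq_one h4
    have h7 : orderOf z ∣ q := orderOf_dvd_of_pow_eq_one h3
    have h8 : orderOf z ∣ 1 := by
      have := Nat.dvd_gcd h6 h7
      rwa [((Nat.coprime_primes Nat.prime_two hq).2 (Ne.symm hq2) : Nat.gcd 2 q = 1)] at this
    rw [Nat.dvd_one, orderOf_eq_one_iff] at h8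
    exact h8
  rw [h5, one_mul] at h2
  exact mul_inv_eq_iff_eq_mul.1 h2

theorem ncomm_co1 {p q : ℕ} (hp : p.Prime) (hq : q.Prime) (hp2 : p ≠ 2) (hq2 : q ≠ 2) (hpq : p ≠ q)
    (h1 : 24 < (p - 1) + (q - 1)) (h2 : 24 < (q - 1) * (p - 1)) {x y : Spor.Co1} (hx : orderOf x = p)
    (hy : orderOf y = q) : x * y ≠ y * x := by
  intro hc
  have hfin := CoZero.finite_co0
  obtain ⟨a, b, ha, hb, hab⟩ := exists_lifts (H := Co0) (Z := Subgroup.center Co0) le_rfl S0398.result hp hq hp2 hq2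
    hx hy hc
  exact ncomm hp hq hpq h1 h2 ha hb hab

theorem ncomm_co2 {p q : ℕ} (hp : p.Prime) (hq : q.Prime) (hpq : p ≠ q)
    (h1 : 24 < (p - 1) + (q - 1)) (h2 : 24 < (q - 1) * (p - 1)) {x y : Spor.Co2} (hx : orderOf x = p)
    (hy : orderOf y = q) : x * y ≠ y * x := by
  intro hc
  refine ncomm (x := Co2Type.Mono.toCo0 x) (y := Co2Type.Mono.toCo0 y) hp hq hpq h1 h2 ?_ ?_ ?_
  · rw [← hx]
    exact orderOf_injective _ Co2Type.Mono.toCo0_injective x
  · rw [← hy]
    exact orderOf_injective _ Co2Type.Mono.toCo0_injective y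
  · rw [← map_mul, hc, map_mul]

open Cfsg.Agent.H518.Dghp Cfsg.Agent.H478.SporCore

theorem co1 {G : Type*} [Group G] [Finite G] (h : Spor.IsoCo1 G) : Core G := by
  have hN := NotCT.Orders.co1 h
  obtain ⟨e⟩ := h
  have : Finite Spor.Co1 := Finite.of_equiv G e.toEquiv
  refine core_odd (r := 23) (s := 7) (K := 1) (L := 2) (by norm_num) (by norm_num) (by norm_num) ?_ ?_ ?_ ?_
    (by decide +kernel) ?_ (by decide +kernel)
  · rw [hN]; norm_num
  · rw [hN]; norm_num
  · intro x y hx hy hc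
    refine ncomm_co1 (p := 23) (q := 7) (x := e x) (y := e y) (by norm_num) (by norm_num) (by norm_num) (by norm_num)
      (by norm_num) (by norm_num) (by norm_num) (by rw [MulEquiv.orderOf_eq, hx]) (by rw [MulEquiv.orderOf_eq, hy]) ?_
    rw [← map_mul, hc, map_mul]
  · rw [hN]; norm_num
  · rw [hN]; norm_num

theorem co2 {G : Type*} [Group G] [Finite G] (h : Spor.IsoCo2 G) : Core G := by
  have hN := NotCT.Orders.co2 h
  obtain ⟨e⟩ := h
  refine core_odd (r := 23) (s := 7) (K := 1) (L := 1) (by norm_num) (by norm_num) (by norm_num) ?_ ?_ ?_ ?_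
    (by decide +kernel) ?_ (by decide +kernel)
  · rw [hN]; norm_num
  · rw [hN]; norm_num
  · intro x y hx hy hc
    refine ncomm_co2 (p := 23) (q := 7) (x := e x) (y := e y) (by norm_num) (by norm_num)
      (by norm_num) (by norm_num) (by norm_num) (by rw [MulEquiv.orderOf_eq, hx]) (by rw [MulEquiv.orderOf_eq, hy]) ?_
    rw [← map_mul, hc, map_mul]
  · rw [hN]; norm_num
  · rw [hN]; norm_num

end Cfsg.Agent.H478.SporConway
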