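import Cfsg.Agent.H839.Rad.Transv
import Cfsg.Agent.H859.Heis

/-!
# Radical elements in groups with an extraspecial Sylow subgroup of order `p ^ 3` (helper478)

`noRad_heis` : the Sylow `p`-subgroup is generated by `a`, `b` with `b a = a b w`, the elements `a`, `b`, `w` are conjugate,
`w` commutes with `t` and the radical of `C(t)` has no element of order `p`: no radical element of order `p`.
-/

set_option autoImplicit false

namespace Cfsg.Agent.H478.RadHeis

open Subgroup Cfsg Cfsg.Agent.H839.Rad Cfsg.Agent.H459.Rad Cfsg.Agent.H459.Iface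
open Cfsg.Agent.H859

variable {K : Type*} [Group K]

/-- a conjugate of a `p`-element in a Sylow subgroup -/
theorem exists_conj_mem [Finite K] {p : ℕ} [Fact p.Prime] {P : Subgroup K} (hP : IsPGroup p P)
    (hi : ¬ p ∣ P.index) {g : K} (hg : g ^ p = 1) : ∃ x : K, x * g * x⁻¹ ∈ P := by
  have h1 : IsPGroup p (zpowers g) := by
    rintro ⟨_, m, rfl⟩
    refine ⟨1, Subtype.ext ?_⟩
    change (g ^ m) ^ p ^ 1 = 1
    rw [← zpow_natCast, ← zpow_mul, mul_comm, zpow_mul, zpow_natCast, pow_one, hg, one_zpow]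
  obtain ⟨Q, hQ⟩ := h1.exists_le_sylow
  obtain ⟨x, hx⟩ := MulAction.exists_smul_eq K Q (hP.toSylow hi)
  refine ⟨x, ?_⟩
  have h2 : (Q : Subgroup K).map (MulAut.conj x).toMonoidHom = P := by
    have := congrArg (fun S : Sylow p K => (S : Subgroup K)) hx
    exact this
  rw [← h2]
  exact ⟨g, hQ (mem_zpowers g), rfl⟩

section Heis

variable {p : ℕ} [hpf : Fact p.Prime] {a b w : K} (h : Heis.Rel p a b w)
include h

theorem comm_form {u v : K} (hu : u ∈ Heis.gp h) (hv : v ∈ Heis.gp h) : ∃ m : ℤ, u * v * u⁻¹ = v * w ^ m := by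
  have hwu := Heis.w_comm h hu
  obtain ⟨i, j, k, rfl⟩ := hu
  obtain ⟨i', j', k', rfl⟩ := hv
  refine ⟨(j * i' : ℕ) - (j' * i : ℕ), ?_⟩
  have e1 := h.mul i j k i' j' k'
  have e2 := h.mul i' j' k' i j k
  have c1 : Commute (a ^ i * b ^ j * w ^ k) (w ^ ((j * i' : ℕ) - (j' * i : ℕ) : ℤ)) :=
    ((show Commute w _ from hwu).zpow_left _).symm
  rw [mul_inv_eq_iff_eq_mul]
  calc a ^ i * b ^ j * w ^ k * (a ^ i' * b ^ j' * w ^ k')
      = a ^ (i' + i) * b ^ (j' + j) * w ^ (k' + k + j' * i) * w ^ ((j * i' : ℕ) - (j' * i : ℕ) : ℤ) := by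
        rw [e1, add_comm i i', add_comm j j']
        simp only [mul_assoc, ← zpow_natCast w, ← zpow_add]
        congr 3
        push_cast
        ring
    _ = a ^ i' * b ^ j' * w ^ k' * (a ^ i * b ^ j * w ^ k * w ^ ((j * i' : ℕ) - (j' * i : ℕ) : ℤ)) := by
        rw [← e2, mul_assoc]
    _ = _ := by rw [c1.eq, ← mul_assoc]

/-- a suitable conjugator -/
theorem exists_good [Finite K] (hi : ¬ p ∣ (Heis.gp h).index) {w' : K} (hc : IsConj w w') (hw' : w' ∈ Heis.gp h) :
    ∃ g : K, g * w * g⁻¹ = w' ∧ g⁻¹ * w * g ∈ Heis.gp h := by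
  obtain ⟨g₀, hg₀⟩ := isConj_iff.1 hc
  let P₀ := (Heis.gp h).map (MulAut.conj g₀).toMonoidHom
  have hP₀ : P₀ ≤ centralizer ({w'} : Set K) := by
    rintro _ ⟨y, hy, rfl⟩
    rw [mem_centralizer_singleton_iff]
    show g₀ * y * g₀⁻¹ * w' = w' * (g₀ * y * g₀⁻¹)
    have := Heis.w_comm h hy
    rw [← hg₀]
    calc g₀ * y * g₀⁻¹ * (g₀ * w * g₀⁻¹) = g₀ * (y * w) * g₀⁻¹ := by group
      _ = g₀ * w * g₀⁻¹ * (g₀ * y * g₀⁻¹) := by rw [← this]; group
  have hpg : IsPGroup p ↥(P₀.subgroupOf (centralizer ({w'} : Set K))) :=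
    ((Heis.isPGroup h).map _).comap_subtype
  have hidx : P₀.index = (Heis.gp h).index := by
    show ((Heis.gp h).map (MulAut.conj g₀).toMonoidHom).index = _
    exact index_map_of_bijective (MulAut.conj g₀).bijective _
  have hni : ¬ p ∣ (P₀.subgroupOf (centralizer ({w'} : Set K))).index := by
    intro h1
    apply hi
    rw [← hidx, ← relIndex_mul_index hP₀]
    exact h1.mul_right _
  have hwc : w ∈ centralizer ({w'} : Set K) := mem_centralizer_singleton_iff.2 (Heis.w_comm h hw')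
  obtain ⟨c, hcm⟩ := exists_conj_mem hpg hni (g := ⟨w, hwc⟩) (Subtype.ext h.wp)
  have h1 : (c : K) * w * (c : K)⁻¹ ∈ P₀ := mem_subgroupOf.1 hcm
  obtain ⟨y, hy, hyc⟩ := h1
  have hyc' : g₀ * y * g₀⁻¹ = (c : K) * w * (c : K)⁻¹ := hyc
  have hcw := mem_centralizer_singleton_iff.1 c.2
  refine ⟨(c : K)⁻¹ * g₀, ?_, ?_⟩
  · calc (c : K)⁻¹ * g₀ * w * ((c : K)⁻¹ * g₀)⁻¹ = (c : K)⁻¹ * (g₀ * w * g₀⁻¹) * c := by group
      _ = w' := by rw [hg₀, mul_assoc, ← hcw, inv_mul_cancel_left]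
  · have : ((c : K)⁻¹ * g₀)⁻¹ * w * ((c : K)⁻¹ * g₀) = y := by
      calc ((c : K)⁻¹ * g₀)⁻¹ * w * ((c : K)⁻¹ * g₀) = g₀⁻¹ * ((c : K) * w * (c : K)⁻¹) * g₀ := by group
        _ = y := by rw [← hyc']; group
    rw [this]
    exact hy

theorem exists_not_comm {x : K} (hx : x ∈ Heis.gp h) (hxw : x ∉ zpowers w) : x * a ≠ a * x ∨ x * b ≠ b * x := by
  by_contra hcon
  push Not at hcon
  apply hxw
  apply Heis.center_le h hx
  rintro _ ⟨i, j, k, rfl⟩
  have c3 : Commute x w := (Heis.w_comm h hx).symm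
  exact ((((show Commute x a from hcon.1).pow_right i).mul_right ((show Commute x b from hcon.2).pow_right j)).mul_right
    (c3.pow_right k)).eq

/-- no radical element of order `p` outside of `⟨w⟩` -/
theorem false_of_heis [Finite K] (hp5 : 5 ≤ p) (hc : center K = ⊥) (hi : ¬ p ∣ (Heis.gp h).index)
    (ha : IsConj w a) (hb : IsConj w b) {x : K} (hx : x ∈ Heis.gp h) (hxw : x ∉ zpowers w)
    (hps : PS 2 (MulAut.conj x)) : False := by
  have hp := hpf.out
  have key : ∀ w' : K, w' ∈ Heis.gp h → IsConj w w' → x * w' ≠ w' * x → False := by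
    intro w' hw' hcw hne
    obtain ⟨g, hg, hgw⟩ := exists_good h hi hcw hw'
    have how' : orderOf w' = p := by
      rw [← hg, ← MulAut.conj_apply, MulEquiv.orderOf_eq, Heis.orderOf_w h]
    have hw'w : w' ∉ zpowers w := by
      intro h1
      obtain ⟨n, rfl⟩ := h1
      exact hne ((show Commute w x from Heis.w_comm h hx).zpow_left n).eq.symm
    have hgn : g⁻¹ * w * g ∉ zpowers w := by
      intro h1
      have h2 : w ∈ zpowers w' := by
        obtain ⟨n, hn⟩ := h1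
        refine ⟨n, ?_⟩
        show w' ^ n = w
        have hn' : w ^ n = g⁻¹ * w * g := hn
        rw [← hg, conj_zpow, hn']
        group
      have h3 : zpowers w = zpowers w' := by
        apply Subgroup.eq_of_le_of_card_ge ((zpowers_le).2 h2)
        rw [Nat.card_zpowers, Nat.card_zpowers, how', Heis.orderOf_w h]
      exact hw'w (h3 ▸ mem_zpowers w')
    -- the element `q`
    obtain ⟨q, hq, k, hk, hqw⟩ : ∃ q : K, q * w' = w' * q ∧ ∃ k : ℤ, ¬ (p : ℤ) ∣ k ∧ q * w * q⁻¹ = w * w' ^ k := by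
      have hq' : ∀ r ∈ Heis.gp h, g⁻¹ * w * g * r ≠ r * (g⁻¹ * w * g) → ∃ q : K, q * w' = w' * q ∧
          ∃ k : ℤ, ¬ (p : ℤ) ∣ k ∧ q * w * q⁻¹ = w * w' ^ k := by
        intro r hr hrn
        obtain ⟨m, hm⟩ := comm_form h hr hgw
        refine ⟨g * r * g⁻¹, ?_, m, ?_, ?_⟩
        · have h1 := Heis.w_comm h hr
          rw [← hg]
          calc g * r * g⁻¹ * (g * w * g⁻¹) = g * (r * w) * g⁻¹ := by group
            _ = g * w * g⁻¹ * (g * r * g⁻¹) := by rw [← h1]; group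
        · rintro ⟨l, rfl⟩
          apply hrn
          rw [zpow_mul, zpow_natCast, h.wp, one_zpow, mul_one, mul_inv_eq_iff_eq_mul] at hm
          exact hm.symm
        · calc g * r * g⁻¹ * w * (g * r * g⁻¹)⁻¹ = g * (r * (g⁻¹ * w * g) * r⁻¹) * g⁻¹ := by group
            _ = w * (g * w * g⁻¹) ^ m := by rw [hm, conj_zpow]; group
            _ = w * w' ^ m := by rw [hg]
      rcases exists_not_comm h hgw hgn with h1 | h1
      · exact hq' a (Heis.a_mem h) h1
      · exact hq' b (Heis.b_mem h) h1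
    obtain ⟨j, hj⟩ := comm_form h hx hw'
    have hjp : ¬ (p : ℤ) ∣ j := by
      rintro ⟨l, rfl⟩
      apply hne
      rw [zpow_mul, zpow_natCast, h.wp, one_zpow, mul_one, mul_inv_eq_iff_eq_mul] at hj
      exact hj
    exact not_solvable_pair hp hp5 (Heis.orderOf_w h) how' (Heis.w_comm h hw') hw'w hjp hk
      (Heis.w_comm h hx).symm hj hq hqw (solvable_pair hc hps q)
  rcases exists_not_comm h hx hxw with h1 | h1
  · exact key a (Heis.a_mem h) ha h1
  · exact key b (Heis.b_mem h) hb h1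

/-- **extraspecial Sylow subgroups of order `p ^ 3`** -/
theorem noRad_heis [Finite K] (hp5 : 5 ≤ p) (hc : center K = ⊥) (hi : ¬ p ∣ (Heis.gp h).index)
    (ha : IsConj w a) (hb : IsConj w b) {t : K} (ht : t ≠ 1) (hwt : w * t = t * w)
    (hR : RadFree p ↥(centralizer ({t} : Set K))) : NoRad p K := by
  intro x hx hrc hps
  obtain ⟨g, hg⟩ := exists_conj_mem (Heis.isPGroup h) hi (g := x) (by rw [← hx]; exact pow_orderOf_eq_one x)
  have ho : orderOf (g * x * g⁻¹) = p := by rw [← MulAut.conj_apply, MulEquiv.orderOf_eq, hx]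
  by_cases h1 : g * x * g⁻¹ ∈ zpowers w
  · refine false_of_comm ho (rc_conj hrc g) (t := t) (by rw [hc, mem_bot]; exact ht) ?_ hR
    obtain ⟨n, hn⟩ := h1
    have hn' : w ^ n = g * x * g⁻¹ := hn
    rw [← hn']
    exact ((show Commute w t from hwt).zpow_left n).eq
  · exact false_of_heis h hp5 hc hi ha hb hg h1 (ps_conj hps g)

end Heis

end Cfsg.Agent.H478.RadHeis
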