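import Cfsg.Agent.H478.RadTools
import Cfsg.Agent.H859.ClassEleven
import Cfsg.Agent.H337.JankoOfIso
import Cfsg.Agent.S5569
import Cfsg.Agent.OddHalf.Table.OutMTwentyTwo

/-!
# The fourth Janko group has no radical elements of order 11 (helper478)
-/

set_option autoImplicit false

namespace Cfsg.Agent.H478.RadJ4

open Subgroup Cfsg Cfsg.Agent.H839.Rad Cfsg.Agent.H459.Rad Cfsg.Agent.H459.Iface
open Cfsg.Agent.H478.RadTools

theorem radFree_autM22 : RadFree 11 (MulAut ↥Spor.M22) := by
  have hc := Cfsg.Agent.SporadicA.MathieuRecog.card_M22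
  have hs : IsSimpleGroup Spor.M22 := Cfsg.Agent.SporadicA.MathieuRecog.simple_M22
  have hf : Finite Spor.M22 := Nat.finite_of_card_ne_zero (by rw [hc]; decide)
  have hle := Cfsg.Agent.OddHalf.Table.OutMTwentyTwo.card_le
  exact radFree_aut (k := 2) (by norm_num) hc (by norm_num) (by omega) (by norm_num)

variable {K : Type*} [Group K] [Finite K]

/-- the centralizer of a 2-central involution -/
theorem radFree_z {z : K} (h : IsOfJankoFourTypeAt z) : RadFree 11 ↥(centralizer ({z} : Set K)) := by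
  obtain ⟨P, -, -, hQ, -, ⟨N, -, -, -, hN, ⟨hn, ⟨e⟩⟩, -⟩, -⟩ := h
  have hf : Finite ↥Spor.M22 := Nat.finite_of_card_ne_zero (by
    rw [Cfsg.Agent.SporadicA.MathieuRecog.card_M22]; decide)
  refine .of_surj (by norm_num) (e.toMonoidHom.comp (QuotientGroup.mk' _))
    (e.surjective.comp (QuotientGroup.mk'_surjective _)) ?_ radFree_autM22
  intro x hx ho
  have h0 : (QuotientGroup.mk' (N.subgroupOf (centralizer ({z} : Set K)))) x = 1 :=
    e.injective (hx.trans (map_one e).symm)
  have h1 : x ∈ N.subgroupOf (centralizer ({z} : Set K)) := (QuotientGroup.eq_one_iff _).1 h0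
  have h2 : (x : K) ∈ N := mem_subgroupOf.1 h1
  have h3 : 11 ∣ Nat.card ↥N := by
    rw [← ho, ← Subgroup.orderOf_coe, ← Subgroup.orderOf_mk _ h2]
    exact orderOf_dvd_natCard _
  rw [hN, hQ] at h3
  omega

/-- the centralizers of the involutions -/
theorem radFree_invol [IsSimpleGroup K] (hG : ¬ IsMulCommutative K) {z : K} (h : IsOfJankoFourTypeAt z) {t : K}
    (ht : orderOf t = 2) : RadFree 11 ↥(centralizer ({t} : Set K)) := by
  by_cases hzt : IsConj z t
  · obtain ⟨g, hg⟩ := isConj_iff.1 hzt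
    have h1 : (centralizer ({z} : Set K)).map (MulAut.conj g).toMonoidHom = centralizer ({t} : Set K) := by
      ext y
      constructor
      · rintro ⟨x, hx, rfl⟩
        have hx' := mem_centralizer_singleton_iff.1 hx
        rw [mem_centralizer_singleton_iff]
        show g * x * g⁻¹ * t = t * (g * x * g⁻¹)
        rw [← hg]
        calc g * x * g⁻¹ * (g * z * g⁻¹) = g * (x * z) * g⁻¹ := by group
          _ = g * z * g⁻¹ * (g * x * g⁻¹) := by rw [hx']; group
      · intro hy
        have hy' := mem_centralizer_singleton_iff.1 hy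
        rw [← hg] at hy'
        refine ⟨g⁻¹ * y * g, mem_centralizer_singleton_iff.2 ?_, ?_⟩
        · calc g⁻¹ * y * g * z = g⁻¹ * (y * (g * z * g⁻¹)) * g := by group
            _ = z * (g⁻¹ * y * g) := by rw [hy']; group
        · show g * (g⁻¹ * y * g) * g⁻¹ = y
          group
    rw [← h1]
    exact RadFree.congr (by norm_num) ((centralizer ({z} : Set K)).equivMapOfInjective
      (MulAut.conj g).toMonoidHom (MulAut.conj g).injective).symm (radFree_z h)
  · obtain ⟨V, L, hV, hL, hn, -, hc, hi, hs, ⟨e⟩⟩ := Cfsg.Agent.S5569.result hG z h t ht hzt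
    have hf : Finite ↥Spor.M22 := Nat.finite_of_card_ne_zero (by
      rw [Cfsg.Agent.SporadicA.MathieuRecog.card_M22]; decide)
    refine radFree_split (by norm_num) hV hL hn hi hs ?_ (RadFree.congr (by norm_num) e radFree_autM22)
    rw [hc]
    norm_num

/-! ### The elements of order 11 of `J4` -/

open Cfsg.Agent.H859

theorem exists_invol_c : ∃ t : Spor.J4, orderOf t = 2 ∧ NU.c * t = t * NU.c := by
  let l : List Bool := [true, false, true, false, true, false, true, false]
  have h0 : NU.evJ l = NU.gm (Cfsg.Agent.SporadicStructure.M11InvCore.ev l) := by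
    have h := NU.gm_ev l (M := 1) (by rw [Matrix.det_one]; decide)
    rw [mul_one, NU.gm_one, mul_one] at h
    exact h.symm
  have hc11 : NU.c ^ 11 = 1 := by rw [← ClassEleven.orderOf_c]; exact pow_orderOf_eq_one _
  refine ⟨NU.evJ l, ?_, ?_⟩
  · rw [orderOf_eq_iff (by norm_num)]
    refine ⟨?_, ?_⟩
    · have h1 := NU.gm_ev l (NU.det_ev l)
      rw [pow_two]
      nth_rewrite 2 [h0]
      rw [← h1]
      have h2 : Cfsg.Agent.SporadicStructure.M11InvCore.ev l * Cfsg.Agent.SporadicStructure.M11InvCore.ev l = 1 := by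
        decide +kernel
      rw [h2, NU.gm_one]
    · intro m hm hm0 h1
      interval_cases m
      rw [pow_one, h0] at h1
      have h2 := NU.gm_ne (NU.det_ev l) h1
      revert h2
      decide +kernel
  · have hA : NU.A * NU.c = NU.c * NU.A := by
      have h := NU.A_c
      rw [pow_zero, pow_zero, one_mul, one_mul, pow_one, mul_inv_eq_iff_eq_mul] at h
      exact h
    have hB : NU.B * NU.c = NU.c ^ 10 * NU.B := by
      have h := NU.B_c
      rw [pow_zero, pow_zero, one_mul, one_mul, mul_inv_eq_iff_eq_mul] at h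
      exact h
    have hB' : NU.B * NU.c ^ 10 = NU.c * NU.B := by
      have h1 : NU.c ^ 10 = NU.c⁻¹ := by
        rw [eq_inv_iff_mul_eq_one, ← pow_succ]; exact hc11
      rw [h1] at hB ⊢
      rw [mul_inv_eq_iff_eq_mul, mul_assoc, hB, mul_inv_cancel_left]
    have hAB : (NU.A * NU.B) * NU.c = NU.c ^ 10 * (NU.A * NU.B) := by
      have h1 : NU.A * NU.c ^ 10 = NU.c ^ 10 * NU.A := (show Commute NU.A NU.c from hA).pow_right 10
      rw [mul_assoc, hB, ← mul_assoc, h1, mul_assoc]
    have hAB' : (NU.A * NU.B) * NU.c ^ 10 = NU.c * (NU.A * NU.B) := by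
      rw [mul_assoc, hB', ← mul_assoc, hA, mul_assoc]
    have h2 : (NU.A * NU.B) * (NU.A * NU.B) * NU.c = NU.c * ((NU.A * NU.B) * (NU.A * NU.B)) := by
      rw [mul_assoc, hAB, ← mul_assoc, hAB', mul_assoc]
    have h3 : NU.evJ l = (NU.A * NU.B) * (NU.A * NU.B) * ((NU.A * NU.B) * (NU.A * NU.B)) := by
      show NU.A * (NU.B * (NU.A * (NU.B * (NU.A * (NU.B * (NU.A * (NU.B * 1))))))) = _
      simp only [mul_one, mul_assoc]
    rw [h3]
    exact ((show Commute NU.c _ from h2.symm).mul_right (show Commute NU.c _ from h2.symm)).eq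

theorem exists_invol_x : ∃ t : Spor.J4, orderOf t = 2 ∧ SylEleven.x * t = t * SylEleven.x := by
  have h := SylEleven.card_centralizer_x_eq
  have : Fact (Nat.Prime 2) := ⟨Nat.prime_two⟩
  obtain ⟨t, ht⟩ := exists_prime_orderOf_dvd_card' (G := ↥(centralizer ({SylEleven.x} : Set Spor.J4))) 2 (by
    rw [h]; norm_num)
  exact ⟨t, by rw [Subgroup.orderOf_coe, ht], (mem_centralizer_singleton_iff.1 t.2).symm⟩

theorem exists_invol {w : Spor.J4} (hw : orderOf w = 11) : ∃ t : Spor.J4, orderOf t = 2 ∧ w * t = t * w := by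
  have key : ∀ y : Spor.J4, IsConj w y → (∃ t : Spor.J4, orderOf t = 2 ∧ y * t = t * y) →
      ∃ t : Spor.J4, orderOf t = 2 ∧ w * t = t * w := by
    rintro y hy ⟨t, ht, h⟩
    obtain ⟨g, rfl⟩ := isConj_iff.1 hy
    refine ⟨g⁻¹ * t * g, ?_, ?_⟩
    · have h1 : orderOf (MulAut.conj g⁻¹ t) = orderOf t := MulEquiv.orderOf_eq _ _
      rw [MulAut.conj_apply, inv_inv] at h1
      rw [h1, ht]
    · calc w * (g⁻¹ * t * g) = g⁻¹ * (g * w * g⁻¹ * t) * g := by group
        _ = g⁻¹ * t * g * w := by rw [h]; group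
  rcases ClassEleven.isConj_or hw with h | h
  · exact key _ h exists_invol_x
  · exact key _ h exists_invol_c

/-- **No radical elements of order 11 in the fourth Janko group** -/
theorem noRad_J4 (h : Cfsg.Spor.IsoJ4 K) : NoRad 11 K := by
  obtain ⟨e⟩ := h
  have hfin : Finite Spor.J4 := SylEleven.finite_J4
  have hs : IsSimpleGroup Spor.J4 := Cfsg.Agent.S1703.result.1
  refine NoRad.congr e ?_
  obtain ⟨z, hz⟩ := Cfsg.Agent.H337.isOfJankoFourType_of_isoJ4 (G := Spor.J4) ⟨MulEquiv.refl _⟩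
  have hcen : center Spor.J4 = ⊥ := center_eq_bot (by
    rw [Cfsg.Agent.S1703.result.2]; norm_num)
  have hG : ¬ IsMulCommutative Spor.J4 := by
    intro hm
    have h2 : (⊤ : Subgroup Spor.J4) ≤ center Spor.J4 := fun x _ => mem_center_iff.2 fun y => hm.1.1 y x
    rw [hcen, le_bot_iff] at h2
    exact absurd h2 top_ne_bot
  intro x hx hR _
  obtain ⟨t, ht, hxt⟩ := exists_invol hx
  refine false_of_comm hx hR ?_ hxt (radFree_invol hG hz ht)
  rw [hcen, mem_bot]
  rintro rfl
  rw [orderOf_one] at ht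
  omega

end Cfsg.Agent.H478.RadJ4
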