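import Cfsg.Agent.Walter.StepAll
import Cfsg.Agent.Walter.Final
import Cfsg.Agent.ClassificationK.WalterIso
import Cfsg.Prelude.Def_LieTwisted
import Cfsg.Prelude.Def_Spor_J1

/-!
# Simple groups with abelian Sylow 2-subgroups, at the level of isomorphism

`iso_of_abelian`: a finite nonabelian simple group with abelian Sylow 2-subgroups is `PSL(2, 2^n)` (`n ≥ 2`),
`PSL(2, q)` (`q ≡ 3, 5 mod 8`, `q ≥ 5`), a Ree group `²G₂(3^(2m+1))`, `m ≥ 1`, or the first Janko group.
`iso_of_exponent`: the same if there is no element of order 4.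
-/

set_option autoImplicit false

namespace Cfsg.Agent.H478.WalterAll

open Cfsg

/-- **Simple groups with abelian Sylow 2-subgroups.** -/
theorem iso_of_abelian {G : Type*} [Group G] [Finite G] [IsSimpleGroup G] (hG : ¬ IsMulCommutative G)
    (S : Sylow 2 G) (hS : ∀ a ∈ (S : Subgroup G), ∀ b ∈ (S : Subgroup G), a * b = b * a) :
    (∃ (F : Type) (_ : Field F) (_ : Fintype F) (n : ℕ), 2 ≤ n ∧ Fintype.card F = 2 ^ n ∧
        Nonempty (G ≃* Matrix.ProjectiveSpecialLinearGroup (Fin 2) F)) ∨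
      (∃ (F : Type) (_ : Field F) (_ : Fintype F),
        (Fintype.card F % 8 = 3 ∨ Fintype.card F % 8 = 5) ∧ 5 ≤ Fintype.card F ∧
          Nonempty (G ≃* Matrix.ProjectiveSpecialLinearGroup (Fin 2) F)) ∨
      Cfsg.Lie.IsoRee G ∨ Cfsg.Spor.IsoJ1 G :=
  Cfsg.Agent.ClassificationK.WalterIso.iso_of_wType Cfsg.Agent.Walter.Final.centThm
    Cfsg.Agent.Walter.Final.reeThm hG
    (Cfsg.Agent.Walter.Main.wType_of_step Cfsg.Agent.Walter.StepAll.step G inferInstance hG S hS)

/-- **Simple groups without elements of order 4.** -/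
theorem iso_of_exponent {G : Type*} [Group G] [Finite G] [IsSimpleGroup G] (hG : ¬ IsMulCommutative G)
    (h4 : ∀ x : G, orderOf x ≠ 4) :
    (∃ (F : Type) (_ : Field F) (_ : Fintype F) (n : ℕ), 2 ≤ n ∧ Fintype.card F = 2 ^ n ∧
        Nonempty (G ≃* Matrix.ProjectiveSpecialLinearGroup (Fin 2) F)) ∨
      (∃ (F : Type) (_ : Field F) (_ : Fintype F),
        (Fintype.card F % 8 = 3 ∨ Fintype.card F % 8 = 5) ∧ 5 ≤ Fintype.card F ∧
          Nonempty (G ≃* Matrix.ProjectiveSpecialLinearGroup (Fin 2) F)) ∨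
      Cfsg.Lie.IsoRee G ∨ Cfsg.Spor.IsoJ1 G := by
  have : Fact (Nat.Prime 2) := ⟨Nat.prime_two⟩
  obtain ⟨S⟩ : Nonempty (Sylow 2 G) := inferInstance
  have hsq : ∀ a ∈ (S : Subgroup G), a * a = 1 := by
    intro a ha
    obtain ⟨k, hk⟩ := (IsPGroup.iff_orderOf.1 S.isPGroup') ⟨a, ha⟩
    rw [← Subgroup.orderOf_coe] at hk
    have hk1 : k ≤ 1 := by
      by_contra hcon
      apply h4 (a ^ (2 ^ (k - 2)))
      rw [orderOf_pow_of_dvd (by positivity) (by rw [hk]; exact pow_dvd_pow 2 (by omega)), hk,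
        Nat.pow_div (by omega) (by norm_num)]
      have : k - (k - 2) = 2 := by omega
      rw [this]
    have h1 : orderOf a ∣ 2 := by
      rw [hk]
      exact (pow_dvd_pow 2 hk1).trans (by norm_num)
    rw [← pow_two]
    exact orderOf_dvd_iff_pow_eq_one.1 h1
  refine iso_of_abelian hG S fun a ha b hb => ?_
  have h1 := hsq _ (mul_mem ha hb)
  calc a * b = (a * b)⁻¹ := (inv_eq_of_mul_eq_one_right h1).symm
    _ = b⁻¹ * a⁻¹ := mul_inv_rev _ _
    _ = b * a := by rw [inv_eq_of_mul_eq_one_right (hsq a ha), inv_eq_of_mul_eq_one_right (hsq b hb)]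

end Cfsg.Agent.H478.WalterAll
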