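import Cfsg.Agent.H478.Th3B
import Cfsg.Agent.H478.RadTh

/-!
# Every element of order three of the Thompson group commutes with an involution (helper478)
-/

set_option autoImplicit false
set_option linter.unusedSimpArgs false
set_option linter.unusedVariables false
set_option synthInstance.maxHeartbeats 400000
set_option synthInstance.maxSize 2000

namespace Cfsg.Agent.H478.ThThree

open Cfsg.Agent.H777.Th3 Cfsg.Agent.H777.Th3.Dat
open Cfsg.Agent.Th.Words248 Cfsg.Agent.Th.Gen248 Cfsg.Agent.Th.Hom248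

/-! ### the group `T` -/

/-- the action of `m2` on `U` -/
def M2 (e : V5) : V5 := (e.2.1, 2 * e.1, 2 * e.2.2.1, 2 * e.2.2.2.1, e.2.2.2.2)

/-- the inverse -/
def M2i (e : V5) : V5 := (2 * e.2.1, e.1, 2 * e.2.2.1, 2 * e.2.2.2.1, e.2.2.2.2)

theorem M2_M2i : ∀ e : V5, M2 (M2i e) = e := by decide +kernel

theorem act_m2 : thDat.Act em2 M2 := by
  refine act_of ?_ ?_ ?_ ?_ ?_ ?_
  · intro x y
    obtain ⟨x1, x2, x3, x4, x5⟩ := x
    obtain ⟨y1, y2, y3, y4, y5⟩ := y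
    simp only [M2, Prod.mk_add_mk, Prod.mk.injEq]
    refine ⟨trivial, ?_, ?_, ?_, trivial⟩ <;> ring
  · rw [show M2 (1, 0, 0, 0, 0) = (0, 2, 0, 0, 0) by decide, m2_u1]
    simp only [uu, ZMod.val_one, ZMod.val_zero, val_two, pow_one, pow_zero, mul_one, one_mul]
  · rw [show M2 (0, 1, 0, 0, 0) = (1, 0, 0, 0, 0) by decide, m2_u2]
    simp only [uu, ZMod.val_one, ZMod.val_zero, val_two, pow_one, pow_zero, mul_one, one_mul]
  · rw [show M2 (0, 0, 1, 0, 0) = (0, 0, 2, 0, 0) by decide, m2_u3]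
    simp only [uu, ZMod.val_one, ZMod.val_zero, val_two, pow_one, pow_zero, mul_one, one_mul]
  · rw [show M2 (0, 0, 0, 1, 0) = (0, 0, 0, 2, 0) by decide, m2_u4]
    simp only [uu, ZMod.val_one, ZMod.val_zero, val_two, pow_one, pow_zero, mul_one, one_mul]
  · rw [show M2 (0, 0, 0, 0, 1) = (0, 0, 0, 0, 1) by decide, m2_u5]
    simp only [uu, ZMod.val_one, ZMod.val_zero, val_two, pow_one, pow_zero, mul_one, one_mul]

theorem fusA {x : Cfsg.Spor.Th} (hx : x ∈ thDat.Tg) (hq : thDat.qT x = (0, 0, 1, 0)) : Fus x := by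
  obtain ⟨e, a, b, c, d, rfl⟩ := (thDat.mem_Tg).1 hx
  rw [qT_w4 th_u1_ne] at hq
  simp only [Prod.mk.injEq] at hq
  obtain ⟨rfl, rfl, rfl, rfl⟩ := hq
  rw [← r1_eq]
  exact fus_r1 e

theorem fusB {x : Cfsg.Spor.Th} (hx : x ∈ thDat.Tg) (hq : thDat.qT x = (2, 0, 2, 1)) : Fus x := by
  have h1 : em2⁻¹ * thDat.r1 * em2 = thDat.uu (2, 1, 1, 1, 0) * thDat.w4 2 0 2 1 := by
    rw [mul_assoc, m2_r1]
    simp only [Dat.w4, uu, ZMod.val_one, ZMod.val_zero, val_two, pow_one, pow_zero, mul_one, one_mul, mul_assoc]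
    rw [inv_mul_cancel_left]
  have hT : em2⁻¹ * thDat.r1 * em2 ∈ thDat.Tg := by
    rw [h1]; exact (thDat.mem_Tg).2 ⟨_, _, _, _, _, rfl⟩
  have hq2 : thDat.qT (em2⁻¹ * thDat.r1 * em2) = (2, 0, 2, 1) := by rw [h1, qT_w4 th_u1_ne]
  have h3 : x * (em2⁻¹ * thDat.r1 * em2)⁻¹ ∈ thDat.U := by
    rw [mem_U_iff_qT th_u1_ne (thDat.Tg.mul_mem hx (thDat.Tg.inv_mem hT)), qT_mul th_u1_ne hx (thDat.Tg.inv_mem hT),
      qT_inv th_u1_ne hT, hq, hq2, add_neg_cancel]
  obtain ⟨e, he⟩ := (thDat.mem_U).1 h3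
  refine Fus.of_conj em2⁻¹ ?_
  have h4 := act_m2 (M2i e)
  rw [M2_M2i] at h4
  have h5 : em2⁻¹⁻¹ * x * em2⁻¹ = thDat.uu (M2i e) * thDat.r1 := by
    calc em2⁻¹⁻¹ * x * em2⁻¹ = em2 * (x * (em2⁻¹ * thDat.r1 * em2)⁻¹) * em2⁻¹ * thDat.r1 := by group
      _ = em2 * (em2⁻¹ * thDat.uu (M2i e) * em2) * em2⁻¹ * thDat.r1 := by rw [he, h4]
      _ = _ := by group
  rw [h5]
  exact fus_r1 _

theorem fus_q {x : Cfsg.Spor.Th} (hx : x ∈ thDat.Tg)
    (hq : thDat.qT x = (0, 0, 1, 0) ∨ thDat.qT x = (0, 0, 2, 0) ∨ thDat.qT x = (2, 0, 2, 1) ∨ thDat.qT x = (1, 0, 1, 2)) :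
    Fus x := by
  rcases hq with hq | hq | hq | hq
  · exact fusA hx hq
  · exact Fus.inv (fusA (thDat.Tg.inv_mem hx) (by rw [qT_inv th_u1_ne hx, hq]; decide))
  · exact fusB hx hq
  · exact Fus.inv (fusB (thDat.Tg.inv_mem hx) (by rw [qT_inv th_u1_ne hx, hq]; decide))

theorem fus_isR {x : Cfsg.Spor.Th} (hx : x ∈ thDat.Tg) (hq : isR (thDat.qT x) = true) : Fus x := by
  have h1 := qT_conj_x0 th_u1_ne hx
  have hx1 := thDat.conj_x0_Tg x hx
  have h2 := qT_conj_x0 th_u1_ne hx1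
  have hx2 := thDat.conj_x0_Tg _ hx1
  rw [h1] at h2
  unfold isR at hq
  simp only [Bool.or_eq_true, beq_iff_eq] at hq
  rcases hq with ((((((hq | hq) | hq) | hq) | hq) | hq) | hq) | hq
  · exact fus_q hx (Or.inl hq)
  · exact fus_q hx (Or.inr (Or.inl hq))
  · exact fus_q hx (Or.inr (Or.inr (Or.inl hq)))
  · exact fus_q hx (Or.inr (Or.inr (Or.inr hq)))
  · exact Fus.of_conj _ (fus_q hx1 (Or.inr (Or.inr (Or.inl (by rw [h1]; exact hq)))))
  · exact Fus.of_conj _ (fus_q hx1 (Or.inr (Or.inr (Or.inr (by rw [h1]; exact hq)))))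
  · exact Fus.of_conj _ (Fus.of_conj _ (fus_q hx2 (Or.inr (Or.inr (Or.inl (by rw [h2]; exact hq))))))
  · exact Fus.of_conj _ (Fus.of_conj _ (fus_q hx2 (Or.inr (Or.inr (Or.inr (by rw [h2]; exact hq))))))

theorem fus_T {x : Cfsg.Spor.Th} (hx : x ∈ thDat.Tg) (h3 : x ^ 3 = 1) : Fus x := by
  rcases cases th_u1_ne hx h3 with h | h
  · exact fus_isN hx h
  · exact fus_isR hx h

/-! ### the whole Sylow subgroup -/

theorem dec1 : ∀ f : ZMod 3, f ≠ 0 → ∀ a b c d : ZMod 3,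
    (∀ v ∈ ([(0, 0, 1, 0, 0), (0, 0, 0, 1, 0), (0, 0, 0, 0, 1)] : List V5),
      Aq a b c d f (Aq a b c d f (Aq a b c d f v)) = v) → a = b := by
  decide +kernel

theorem dec2 : ∀ f : ZMod 3, f ≠ 0 → ∀ a c d : ZMod 3, ∃ i c' d' : ZMod 3,
    ∀ v ∈ ([(1, 0, 0, 0, 0), (0, 1, 0, 0, 0), (0, 0, 1, 0, 0), (0, 0, 0, 1, 0), (0, 0, 0, 0, 1)] : List V5),
      T i 0 0 0 (Aq a a c d f (T (-i) 0 0 0 v)) = Aq 0 0 c' d' f v := by
  decide +kernel

theorem fus_S {x : Cfsg.Spor.Th} (hx : x ∈ thDat.Sg) (h3 : x ^ 3 = 1) : Fus x := by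
  obtain ⟨e, a, b, c, d, f, he⟩ := (thDat.mem_Sg).1 hx
  by_cases hf : f = 0
  · refine fus_T ?_ h3
    rw [he, hf]
    simp only [ZMod.val_zero, pow_zero, mul_one]
    exact (thDat.mem_Tg).2 ⟨e, a, b, c, d, rfl⟩
  have hA : thDat.Act x (Aq a b c d f) := by
    rw [he]; exact act_w5 e a b c d f
  have hab : a = b := by
    refine dec1 f hf a b c d fun v _ => ?_
    have h1 := ((hA.mul hA).mul hA) v
    have h2 : x * x * x = 1 := by rw [← h3, pow_succ, pow_two]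
    rw [h2] at h1
    refine (uu_injective th_u1_ne ?_).symm
    rw [← h1]
    group
  subst hab
  obtain ⟨i, c', d', hi⟩ := dec2 f hf a c d
  refine Fus.of_conj (thDat.v1 ^ i.val) ?_
  set s := thDat.v1 ^ i.val with hs
  have hsS : s ∈ thDat.Sg := thDat.Sg.pow_mem v1_Sg _
  have hx' : s⁻¹ * x * s ∈ thDat.Sg := thDat.Sg.mul_mem (thDat.Sg.mul_mem (thDat.Sg.inv_mem hsS) hx) hsS
  have ha1 : thDat.Act s⁻¹ (T (-i) 0 0 0) := by
    intro v
    rw [inv_inv, hs, lv1p i v, mul_inv_cancel_right]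
  have ha2 : thDat.Act s (T i 0 0 0) := (act_v1.powT i.val).congr fun v => by simp
  have ha := (ha1.mul hA).mul ha2
  have hx3 : (s⁻¹ * x * s) ^ 3 = 1 := by
    have := conj_pow (i := 3) (a := s⁻¹) (b := x)
    rw [inv_inv] at this
    rw [this, h3]
    group
  obtain ⟨e', a', b', c'', d'', f', he'⟩ := (thDat.mem_Sg).1 hx'
  have hA' : thDat.Act (s⁻¹ * x * s) (Aq a' b' c'' d'' f') := by
    rw [he']; exact act_w5 e' a' b' c'' d'' f'
  have key : ∀ v, Aq a' b' c'' d'' f' v = Aq 0 0 c' d' f v := by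
    intro v
    rw [act_unique th_u1_ne hA' ha v]
    refine add_ext (f := fun v => T i 0 0 0 (Aq a a c d f (T (-i) 0 0 0 v))) (g := fun v => Aq 0 0 c' d' f v) ?_ ?_ hi v
    · intro v w
      simp only [T_add, Aq_add]
    · intro v w
      simp only [Aq_add]
  obtain ⟨rfl, rfl, rfl, rfl, rfl⟩ := Aq_inj key
  refine Fus.of_conj em1 (fus_T ?_ ?_)
  · have := ph_D1 e' c'' d'' f'
    rw [← he'] at this
    exact this
  · have := conj_pow (i := 3) (a := em1⁻¹) (b := s⁻¹ * x * s)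
    rw [inv_inv] at this
    rw [this, hx3]
    group

theorem fus {x : Cfsg.Spor.Th} (h3 : x ^ 3 = 1) : Fus x := by
  have : Fact (Nat.Prime 3) := ⟨Nat.prime_three⟩
  have hp : IsPGroup 3 (Subgroup.zpowers x) := by
    intro y
    obtain ⟨y, i, rfl⟩ := y
    refine ⟨1, Subtype.ext ?_⟩
    show (x ^ i) ^ 3 ^ 1 = 1
    rw [pow_one, ← zpow_natCast, ← zpow_mul, mul_comm, zpow_mul, zpow_natCast, h3, one_zpow]
  obtain ⟨l, -, hl⟩ := sylow_conj (L := (⊤ : Subgroup Cfsg.Spor.Th)) (A := Subgroup.zpowers x) (B := thDat.Sg) le_top le_top hp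
    (card_Sg th_u1_ne) (by rw [Subgroup.card_top]; exact not_11)
  refine Fus.of_conj l (fus_S (hl x (Subgroup.mem_zpowers x)) ?_)
  have := conj_pow (i := 3) (a := l⁻¹) (b := x)
  rw [inv_inv] at this
  rw [this, h3]
  group

/-! ### orbits on `U` -/

/-- the moves -/
def mvT (i : Fin 6) (e : V5) : V5 :=
  match i with
  | 0 => T 1 0 0 0 e
  | 1 => T 0 1 0 0 e
  | 2 => T 0 0 1 0 e
  | 3 => T 0 0 0 1 e
  | 4 => X e
  | 5 => M2 e

/-- table of depths -/
def depU : ℕ := 0x432334433223332212433233433320221312444444534354344444332334344444445534122322233445444354221230132434534444332223122444443454323343343434333243223321323343323434554443344455565555443332221555545555433443323321432210233232231233213210343231200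

/-- depth -/
def dep (e : V5) : ℕ :=
  depU / 16 ^ (e.1.val + 3 * e.2.1.val + 9 * e.2.2.1.val + 27 * e.2.2.2.1.val + 81 * e.2.2.2.2.val) % 16

/-- representatives -/
def baseU : List V5 := [(1, 0, 0, 0, 0), (0, 0, 1, 0, 0), (0, 0, 0, 1, 0), (0, 2, 2, 1, 2), (0, 1, 1, 2, 1)]

theorem descU : ∀ e : V5, e = 0 ∨ e ∈ baseU ∨ ∃ i : Fin 6, dep (mvT i e) < dep e ∧ mvT i e ≠ 0 := by
  decide +kernel

theorem act_mvT (i : Fin 6) : ∃ s : Cfsg.Spor.Th, thDat.Act s (mvT i) := by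
  fin_cases i
  · exact ⟨_, act_v1⟩
  · exact ⟨_, act_v2⟩
  · exact ⟨_, act_r1⟩
  · exact ⟨_, act_r2⟩
  · exact ⟨_, act_x0⟩
  · exact ⟨_, act_m2⟩

/-- commutes with an involution -/
def Good (x : Cfsg.Spor.Th) : Prop := ∃ t : Cfsg.Spor.Th, t * t = 1 ∧ t ≠ 1 ∧ x * t = t * x

theorem Good.of_conj {x : Cfsg.Spor.Th} (h : Cfsg.Spor.Th) (hg : Good (h⁻¹ * x * h)) : Good x := by
  obtain ⟨t, h1, h2, h3⟩ := hg
  refine ⟨h * t * h⁻¹, ?_, ?_, ?_⟩
  · calc h * t * h⁻¹ * (h * t * h⁻¹) = h * (t * t) * h⁻¹ := by group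
      _ = 1 := by rw [h1]; group
  · intro h4
    apply h2
    have h5 : t = h⁻¹ * (h * t * h⁻¹) * h := by group
    rw [h5, h4]
    group
  · calc x * (h * t * h⁻¹) = h * ((h⁻¹ * x * h) * t) * h⁻¹ := by group
      _ = h * (t * (h⁻¹ * x * h)) * h⁻¹ := by rw [h3]
      _ = _ := by group

theorem Good.inv {x : Cfsg.Spor.Th} (hg : Good x) : Good x⁻¹ := by
  obtain ⟨t, h1, h2, h3⟩ := hg
  exact ⟨t, h1, h2, ((show Commute x t from h3).inv_left).eq⟩

theorem Good.conj {x : Cfsg.Spor.Th} (h : Cfsg.Spor.Th) (hg : Good x) : Good (h⁻¹ * x * h) := by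
  refine Good.of_conj h⁻¹ ?_
  have : h⁻¹⁻¹ * (h⁻¹ * x * h) * h⁻¹ = x := by group
  rw [this]
  exact hg

theorem good_u1 : Good thDat.u1 := by
  refine ⟨el (wl [.b]), ?_, ?_, ?_⟩
  · rw [← el_mul, ← el_one]
    exact el_eq (by decide +kernel)
  · rw [← el_one]
    exact el_ne (by decide +kernel)
  · show el (wl [.d, .e]) * el (wl [.b]) = el (wl [.b]) * el (wl [.d, .e])
    rw [← el_mul, ← el_mul]
    exact el_eq (by decide +kernel)

theorem good_u3 : Good thDat.u3 := by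
  refine ⟨el (wl [.e]), ?_, ?_, ?_⟩
  · rw [← el_mul, ← el_one]
    exact el_eq (by decide +kernel)
  · rw [← el_one]
    exact el_ne (by decide +kernel)
  · show el (wl [.b, .a, .t]) * el (wl [.e]) = el (wl [.e]) * el (wl [.b, .a, .t])
    rw [← el_mul, ← el_mul]
    exact el_eq (by decide +kernel)

theorem good_u4 : Good thDat.u4 := by
  refine ⟨el (wl [.a]), ?_, ?_, ?_⟩
  · rw [← el_mul, ← el_one]
    exact el_eq (by decide +kernel)
  · rw [← el_one]
    exact el_ne (by decide +kernel)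
  · show el (wl [.t]) * el (wl [.a]) = el (wl [.a]) * el (wl [.t])
    rw [← el_mul, ← el_mul]
    exact el_eq (by decide +kernel)

theorem good_base {e : V5} (he : e ∈ baseU) : Good (thDat.uu e) := by
  have hg : Good (thDat.uu (0, 2, 2, 1, 2)) := by
    rw [← ph_u2']
    refine Good.conj em1 (Good.of_conj em2 ?_)
    have h := act_m2 (0, 1, 0, 0, 0)
    rw [uu_2, show M2 (0, 1, 0, 0, 0) = (1, 0, 0, 0, 0) by decide, uu_1] at h
    rw [h]
    exact good_u1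
  simp only [baseU, List.mem_cons, List.not_mem_nil, or_false] at he
  rcases he with rfl | rfl | rfl | rfl | rfl
  · rw [uu_1]; exact good_u1
  · rw [uu_3]; exact good_u3
  · rw [uu_4]; exact good_u4
  · exact hg
  · rw [show ((0, 1, 1, 2, 1) : V5) = -(0, 2, 2, 1, 2) by decide, uu_neg]
    exact hg.inv

theorem good_U (e : V5) (he : e ≠ 0) : Good (thDat.uu e) := by
  generalize hn : dep e = n
  induction n using Nat.strong_induction_on generalizing e with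
  | _ n ih =>
    rcases descU e with h0 | hb | ⟨i, hi, hne⟩
    · exact absurd h0 he
    · exact good_base hb
    · have h1 := ih _ (hn ▸ hi) (mvT i e) hne rfl
      obtain ⟨s, hs⟩ := act_mvT i
      refine Good.of_conj s ?_
      rw [hs e]
      exact h1

/-- **Every element of order three commutes with an involution.** -/
theorem exists_invol {x : Cfsg.Spor.Th} (hx : orderOf x = 3) : ∃ t : Cfsg.Spor.Th, orderOf t = 2 ∧ x * t = t * x := by
  have h3 : x ^ 3 = 1 := by rw [← hx, pow_orderOf_eq_one]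
  obtain ⟨g, e, hg⟩ := fus h3
  have he : e ≠ 0 := by
    rintro rfl
    rw [uu_zero] at hg
    have h1 : x = 1 := by
      calc x = g * (g⁻¹ * x * g) * g⁻¹ := by group
        _ = 1 := by rw [hg]; group
    rw [h1, orderOf_one] at hx
    exact absurd hx (by norm_num)
  have h1 : Good x := by
    refine Good.of_conj g ?_
    rw [hg]
    exact good_U e he
  obtain ⟨t, h2, h4, h5⟩ := h1
  have : Fact (Nat.Prime 2) := ⟨Nat.prime_two⟩
  exact ⟨t, orderOf_eq_prime (by rw [pow_two]; exact h2) h4, h5⟩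

end Cfsg.Agent.H478.ThThree
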