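import Cfsg.Agent.H478.SporCore
import Cfsg.Agent.FixBN.HeStab
import Cfsg.Agent.KFacts.He.Bound
import Cfsg.Agent.CpAutON.Gen
import Cfsg.Agent.NotCT.Orders

/-!
# `Core` for `He` (helper478)

Pair (17, 7): an element of order 17 fixes exactly one of the 2058 points, the stabiliser of a point has order
1958400, prime to 7.
-/

set_option autoImplicit false

namespace Cfsg.Agent.H478.SporHe

open Cfsg Cfsg.Spor Cfsg.Spor.He Subgroup Cfsg.Agent.SporadicB.HePerm Cfsg.Agent.FixBN.HeStab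
  Cfsg.Agent.H518.Dghp Cfsg.Agent.H478.SporCore

/-- a word of order 17 -/
def w17 : List Gen := [.f, .g, .c, .b, .d, .g, .e]

theorem w17_chk : chkB (powWord w17 17) [] = true := by decide +kernel

theorem w17_pow : (wd w17) ^ 17 = 1 := by
  have h := eq_of_chkB w17_chk
  have h1 : wd (powWord w17 17) = (wd w17) ^ 17 := powWord_prod _ _ _
  rw [← h1, h]
  rfl

theorem w17_fix : allBelow 2058 (fun i => bif Nat.beq (act w17 i) i then Nat.beq i 1544 else true) = true := by
  decide +kernel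

theorem fix_of {i : Fin 2058} (h : phi (wd w17) i = i) : i = ⟨1544, by norm_num⟩ := by
  have h1 := of_allBelow w17_fix i i.2
  have h2 : act w17 i = i := by rw [← phi_wd_apply, h]
  rw [h2, show Nat.beq (i : ℕ) (i : ℕ) = true from Nat.beq_refl _] at h1
  exact Fin.ext (Nat.eq_of_beq_eq_true h1)

theorem fixed : phi (wd w17) ⟨1544, by norm_num⟩ = ⟨1544, by norm_num⟩ := by
  apply Fin.ext
  rw [phi_wd_apply]
  have : Nat.beq (act w17 1544) 1544 = true := by decide +kernel
  exact Nat.eq_of_beq_eq_true this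

theorem orderOf_w17 : orderOf (wd w17) = 17 := by
  refine orderOf_eq_prime (hp := ⟨by norm_num⟩) w17_pow fun h => ?_
  have h1 := fix_of (i := 0) (by rw [h, map_one]; rfl)
  exact absurd h1 (by decide)

theorem card_stab : Nat.card ↥(phi.range ⊓ fixer 0) = 1958400 := by
  refine le_antisymm card_stab_le ?_
  have h := KFacts.He.Bound.step_le phi.range (0 : Fin 2058) Finset.univ (fun _ _ => Finset.mem_univ _)
  rw [card_phi_range, Finset.card_univ, Fintype.card_fin] at h
  have h1 : (4030387200 : ℕ) ≤ 2058 * Nat.card ↥(phi.range ⊓ fixer 0) := h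
  omega

theorem no_fix {x : Cfsg.Spor.He} (hx : orderOf x = 7) (i : Fin 2058) : phi x i ≠ i := by
  intro h
  obtain ⟨k, hk⟩ := walk_spec 17 i
  have h0 : phi k i = 0 := by
    apply Fin.ext
    rw [hk]
    exact Nat.eq_of_beq_eq_true (of_allBelow chkWalk i i.2)
  have h1 : phi (k * x * k⁻¹) ∈ phi.range ⊓ fixer 0 := by
    refine ⟨⟨_, rfl⟩, ?_⟩
    show phi (k * x * k⁻¹) 0 = 0
    rw [map_mul, map_mul, map_inv, Equiv.Perm.mul_apply, Equiv.Perm.mul_apply, ← h0, inv_app, h]
  have h2 := orderOf_dvd_natCard (⟨_, h1⟩ : ↥(phi.range ⊓ fixer 0))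
  have h3 : orderOf (k * x * k⁻¹) = 7 := by
    rw [← hx]
    exact MulEquiv.orderOf_eq (MulAut.conj k) x
  rw [Subgroup.orderOf_mk, orderOf_injective phi phi_injective, card_stab, h3] at h2
  revert h2
  norm_num

theorem no119 {x y : Cfsg.Spor.He} (hx : orderOf x = 17) (hy : orderOf y = 7) : x * y ≠ y * x := by
  intro hc
  have : Finite Cfsg.Spor.He := Nat.finite_of_card_ne_zero (by rw [card_he]; norm_num)
  have : Fact (Nat.Prime 17) := ⟨by norm_num⟩
  obtain ⟨g, hg⟩ := CpAutON.Gen.conj_into (p := 17) (by rw [card_he]; norm_num) orderOf_w17 hx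
  -- `u = g w g⁻¹` is a power of `x`
  have hcu : (g * wd w17 * g⁻¹) * y = y * (g * wd w17 * g⁻¹) := by
    obtain ⟨k, hk⟩ := mem_zpowers_iff.1 hg
    rw [← hk]
    exact (Commute.zpow_left hc k).eq
  refine no_fix hy (phi g ⟨1544, by norm_num⟩) ?_
  have h1 : phi (g⁻¹ * y * g) ⟨1544, by norm_num⟩ = ⟨1544, by norm_num⟩ := by
    refine fix_of ?_
    have h2 : wd w17 * (g⁻¹ * y * g) = (g⁻¹ * y * g) * wd w17 := by
      have h3 : wd w17 = g⁻¹ * (g * wd w17 * g⁻¹) * g := by group
      calc wd w17 * (g⁻¹ * y * g) = g⁻¹ * ((g * wd w17 * g⁻¹) * y) * g := by group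
        _ = g⁻¹ * (y * (g * wd w17 * g⁻¹)) * g := by rw [hcu]
        _ = _ := by group
    rw [← Equiv.Perm.mul_apply, ← map_mul, h2, map_mul, Equiv.Perm.mul_apply, fixed]
  have h4 : y = g * (g⁻¹ * y * g) * g⁻¹ := by group
  rw [h4, map_mul, map_mul, map_inv, Equiv.Perm.mul_apply, Equiv.Perm.mul_apply, inv_app, h1]

theorem he {G : Type*} [Group G] [Finite G] (h : Spor.IsoHe G) : Core G := by
  have hN := NotCT.Orders.he h
  obtain ⟨e⟩ := h
  refine core_odd (r := 17) (s := 7) (K := 1) (L := 3) (by norm_num) (by norm_num) (by norm_num) ?_ ?_ ?_ ?_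
    (by decide +kernel) ?_ (by decide +kernel)
  · rw [hN]; norm_num
  · rw [hN]; norm_num
  · intro x y hx hy hc
    refine no119 (x := e x) (y := e y) (by rw [MulEquiv.orderOf_eq, hx]) (by rw [MulEquiv.orderOf_eq, hy]) ?_
    rw [← map_mul, hc, map_mul]
  · rw [hN]; norm_num
  · rw [hN]; norm_num

end Cfsg.Agent.H478.SporHe
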