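import Cfsg.Agent.H518.DghpCore
import Cfsg.Agent.H728.DghpLem

/-!
# `Core G` from two non-adjacent primes (helper478)

* `core_odd` : primes `r ≠ s` dividing `|G|`, no commuting elements of orders `r`, `s`, and the orders of `r` modulo
  `s` and of `s` modulo `r` exceed the exponents of `r` and `s` in `|G|`;
* `core_two` : `r` divides `|G|` exactly once, no element of order `r` commutes with an involution, the order of
  `2` modulo `r` exceeds the exponent of `2` in `|G|`, and there is an element of order `2 ^ b`, `2 ^ b ∤ r - 1`.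
-/

set_option autoImplicit false

namespace Cfsg.Agent.H478.SporCore

open Subgroup Cfsg.Agent.H518.Dghp Cfsg.Agent.H728.DghpLem

variable {G : Type*} [Group G] [Finite G]

theorem card_elem {p : ℕ} (hp : p.Prime) {P : Subgroup G} (hP : Elem p P) :
    ∃ k, 0 < k ∧ Nat.card ↥P = p ^ k := by
  have : Fact p.Prime := ⟨hp⟩
  have hPg : IsPGroup p ↥P := fun u => ⟨1, by
    rw [pow_one]
    exact Subtype.ext (hP.2.2 u.1 u.2)⟩
  obtain ⟨k, hk⟩ := IsPGroup.iff_card.1 hPg
  refine ⟨k, ?_, hk⟩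
  rcases Nat.eq_zero_or_pos k with rfl | h
  · exact absurd (Subgroup.card_eq_one.1 (by rw [hk, pow_zero])) hP.1
  · exact h

/-- an element of prime order `s` normalising an elementary abelian `r`-subgroup and commuting with none of its
nontrivial elements -/
theorem dvd_of_norm {r s : ℕ} (hr : r.Prime) (hs : s.Prime) {P : Subgroup G} (hP : Elem r P) {y : G}
    (hy : orderOf y = s) (hn : y ∈ normalizer (P : Set G))
    (hno : ∀ u ∈ P, u ≠ 1 → y * u ≠ u * y) : ∃ k, 0 < k ∧ r ^ k ∣ Nat.card G ∧ s ∣ r ^ k - 1 := by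
  have : Fact s.Prime := ⟨hs⟩
  obtain ⟨k, hk, hc⟩ := card_elem hr hP
  refine ⟨k, hk, hc ▸ card_subgroup_dvd_card P, ?_⟩
  have hle : zpowers y ≤ normalizer (P : Set G) := by rwa [zpowers_le]
  -- the action of `⟨y⟩` on `P`
  let _ : MulAction ↥(zpowers y) ↥P :=
    { smul := fun g u => ⟨g * u * (g : G)⁻¹, (mem_normalizer_iff.1 (hle g.2) u).1 u.2⟩
      one_smul := fun u => Subtype.ext (by show (1 : G) * u * (1 : G)⁻¹ = u; group)
      mul_smul := fun g h u => Subtype.ext (by
        show ((g : G) * h) * u * ((g : G) * h)⁻¹ = g * (h * u * (h : G)⁻¹) * (g : G)⁻¹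
        group) }
  have hPg : IsPGroup s ↥(zpowers y) := IsPGroup.of_card (n := 1) (by rw [Nat.card_zpowers, hy, pow_one])
  have h1 := hPg.card_modEq_card_fixedPoints (α := ↥P)
  have h2 : MulAction.fixedPoints ↥(zpowers y) ↥P = {1} := by
    ext u
    constructor
    · intro hu
      by_contra hu1
      have h3 : (y : G) * u * y⁻¹ = u := congrArg Subtype.val (hu ⟨y, mem_zpowers y⟩)
      exact hno u u.2 (fun h => hu1 (Subtype.ext h)) (mul_inv_eq_iff_eq_mul.1 h3)
    · rintro rfl g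
      exact Subtype.ext (by show (g : G) * 1 * (g : G)⁻¹ = 1; group)
  rw [h2, hc] at h1
  have h4 : Nat.card ({1} : Set ↥P) = 1 := by simp
  rw [h4] at h1
  exact (Nat.modEq_iff_dvd' (Nat.one_le_pow _ _ hr.pos)).1 h1.symm

/-- **odd pairs** -/
theorem core_odd {r s K L : ℕ} (hr : r.Prime) (hs : s.Prime) (hrs : r ≠ s) (hrG : r ∣ Nat.card G)
    (hsG : s ∣ Nat.card G) (hno : ∀ x y : G, orderOf x = r → orderOf y = s → x * y ≠ y * x)
    (hK : ¬ r ^ (K + 1) ∣ Nat.card G) (hK' : ∀ k ∈ List.range (K + 1), 0 < k → ¬ s ∣ r ^ k - 1)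
    (hL : ¬ s ^ (L + 1) ∣ Nat.card G) (hL' : ∀ k ∈ List.range (L + 1), 0 < k → ¬ r ∣ s ^ k - 1) : Core G := by
  have : Fact r.Prime := ⟨hr⟩
  have : Fact s.Prime := ⟨hs⟩
  obtain ⟨x, hx⟩ := exists_prime_orderOf_dvd_card' (G := G) r hrG
  obtain ⟨y, hy⟩ := exists_prime_orderOf_dvd_card' (G := G) s hsG
  refine ⟨r, s, 1, 1, hr, hs, hrs, one_pos, one_pos, ⟨x, by rw [hx, pow_one]⟩, ⟨y, by rw [hy, pow_one]⟩,
    not_solvable_of_norm hr hs one_pos ?_ ?_⟩
  · intro P hP y hy hn
    rw [pow_one] at hy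
    obtain ⟨k, hk, h1, h2⟩ := dvd_of_norm hr hs hP hy hn fun u hu hu1 h =>
      hno u y (orderOf_eq_prime (hP.2.2 u hu) hu1) hy h.symm
    refine hK' k ?_ hk h2
    rw [List.mem_range]
    by_contra h
    exact hK ((pow_dvd_pow r (by omega)).trans h1)
  · intro P hP x hx hn
    rw [pow_one] at hx
    obtain ⟨k, hk, h1, h2⟩ := dvd_of_norm hs hr hP hx hn fun u hu hu1 h =>
      hno x u hx (orderOf_eq_prime (hP.2.2 u hu) hu1) h
    refine hL' k ?_ hk h2
    rw [List.mem_range]
    by_contra h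
    exact hL ((pow_dvd_pow s (by omega)).trans h1)

/-- an element of order `p ^ b` normalising a subgroup of prime order `r`, no element of order `p` commutes with an
element of order `r` -/
theorem dvd_pred {r p b : ℕ} (hr : r.Prime) (hp : p.Prime) {y x : G} (hy : orderOf y = r) (hx : orderOf x = p ^ b)
    (hn : x ∈ normalizer (zpowers y : Set G)) (hno : ∀ t : G, orderOf t = p → y * t ≠ t * y) : p ^ b ∣ r - 1 := by
  have : Fact r.Prime := ⟨hr⟩
  have hcz : Nat.card ↥(zpowers y) = r := by rw [Nat.card_zpowers, hy]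
  have hcyc : IsCyclic ↥(zpowers y) := inferInstance
  have hle : zpowers x ≤ normalizer (zpowers y : Set G) := by rwa [zpowers_le]
  let φ : ↥(zpowers x) →* MulAut ↥(zpowers y) := (normalizerMonoidHom (zpowers y)).comp (inclusion hle)
  have hφ : ∀ g : ↥(zpowers x), φ g = 1 → (g : G) * y = y * g := by
    intro g hg
    have h1 : inclusion hle g ∈ (normalizerMonoidHom (zpowers y)).ker := hg
    rw [normalizerMonoidHom_ker, mem_subgroupOf] at h1
    exact (mem_centralizer_iff.1 h1 y (mem_zpowers y)).symm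
  have hinj : Function.Injective φ := by
    rw [injective_iff_map_eq_one]
    intro g hg
    by_contra hg1
    have hg' : (g : G) ≠ 1 := fun h => hg1 (Subtype.ext h)
    -- a power of `g` has order `p`
    obtain ⟨m, hm⟩ : ∃ m : ℕ, orderOf (g : G) = p ^ m := by
      have h2 : orderOf (g : G) ∣ p ^ b := by
        rw [← hx]
        exact orderOf_dvd_of_mem_zpowers g.2
      obtain ⟨m, -, hm⟩ := (Nat.dvd_prime_pow hp).1 h2
      exact ⟨m, hm⟩
    have hm0 : m ≠ 0 := by
      rintro rfl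
      rw [pow_zero, orderOf_eq_one_iff] at hm
      exact hg' hm
    have ht : orderOf ((g : G) ^ p ^ (m - 1)) = p := by
      rw [orderOf_pow' _ (pow_ne_zero _ hp.ne_zero), hm, Nat.gcd_eq_right (pow_dvd_pow p (by omega)),
        Nat.pow_div (by omega) hp.pos]
      rw [show m - (m - 1) = 1 by omega, pow_one]
    have hc : Commute (g : G) y := hφ g hg
    exact hno _ ht ((hc.pow_left _).eq.symm)
  have h3 : Nat.card ↥(zpowers x) ∣ Nat.card (MulAut ↥(zpowers y)) := Subgroup.card_dvd_of_injective φ hinj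
  rwa [Nat.card_zpowers, hx, IsCyclic.card_mulAut, hcz, Nat.totient_prime hr] at h3

/-- **the prime 2** -/
theorem core_two {r b K : ℕ} (hr : r.Prime) (hr2 : r ≠ 2) (hrG : r ∣ Nat.card G) (hr' : ¬ r ^ 2 ∣ Nat.card G)
    (hno : ∀ x t : G, orderOf x = r → orderOf t = 2 → x * t ≠ t * x) (hb : 0 < b)
    (hx : ∃ x : G, orderOf x = 2 ^ b) (hbr : ¬ 2 ^ b ∣ r - 1)
    (hK : ¬ 2 ^ (K + 1) ∣ Nat.card G) (hK' : ∀ k ∈ List.range (K + 1), 0 < k → ¬ r ∣ 2 ^ k - 1) : Core G := by
  have : Fact r.Prime := ⟨hr⟩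
  obtain ⟨y, hy⟩ := exists_prime_orderOf_dvd_card' (G := G) r hrG
  refine ⟨2, r, b, 1, Nat.prime_two, hr, Ne.symm hr2, hb, one_pos, hx, ⟨y, by rw [hy, pow_one]⟩,
    not_solvable_of_norm Nat.prime_two hr hb ?_ ?_⟩
  · intro P hP y hy hn
    rw [pow_one] at hy
    obtain ⟨k, hk, h1, h2⟩ := dvd_of_norm Nat.prime_two hr hP hy hn fun u hu hu1 h =>
      hno y u hy (orderOf_eq_prime (hP.2.2 u hu) hu1) h
    refine hK' k ?_ hk h2
    rw [List.mem_range]
    by_contra h
    exact hK ((pow_dvd_pow 2 (by omega)).trans h1)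
  · intro P hP x hx hn
    obtain ⟨k, hk, hc⟩ := card_elem hr hP
    have hk1 : k = 1 := by
      by_contra h
      exact hr' ((pow_dvd_pow r (by omega)).trans (hc ▸ card_subgroup_dvd_card P))
    rw [hk1, pow_one] at hc
    have hcyc : IsCyclic ↥P := isCyclic_of_prime_card hc
    obtain ⟨y, hy, rfl⟩ := hP.eq_zpowers_of_cyclic hr hcyc
    exact hbr (dvd_pred hr Nat.prime_two hy hx hn fun t ht => hno y t hy ht)

end Cfsg.Agent.H478.SporCore
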