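import Cfsg.Prelude.Def_Local
import Cfsg.Prelude.Def_KGroupFacts
import Cfsg.Agent.S5758
import Cfsg.Agent.SignalizersComponents.Components
import Cfsg.Agent.SignalizersComponents.ComponentExists
import Cfsg.Agent.TwoFusion.FStarControl

/-!
# Groups with trivial solvable radical; almost simple groups

* `quotient_radical`: modulo the largest normal solvable subgroup, normal solvable subgroups are trivial.
* `centralizer_layer`: if normal solvable subgroups of the finite group `G` are trivial then `C(E(G)) = 1`.
* `isSolvable_quotient`: `S` simple nonabelian normal in `G`, `C_G(S) = 1`: then `G / S` is solvable (Schreier).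
-/

set_option autoImplicit false

namespace Cfsg.Agent.H478.AlmostSimple

open Cfsg Subgroup Cfsg.Agent.SignalizersComponents.Components

/-- Modulo the largest normal solvable subgroup, normal solvable subgroups are trivial. -/
theorem quotient_radical {G : Type*} [Group G] {R : Subgroup G} [R.Normal]
    (hs : Group.IsSolvable R) (hmax : ∀ N : Subgroup G, N.Normal → Group.IsSolvable N → N ≤ R)
    {N : Subgroup (G ⧸ R)} (hN : N.Normal) (hNs : Group.IsSolvable N) : N = ⊥ := by
  have h1 : (N.comap (QuotientGroup.mk' R)).Normal := hN.comap _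
  have h2 : Group.IsSolvable ↥(N.comap (QuotientGroup.mk' R)) := by
    let f : ↥(N.comap (QuotientGroup.mk' R)) →* N :=
      (QuotientGroup.mk' R).subgroupComap N
    have hk : Group.IsSolvable f.ker := by
      have : f.ker ≤ (R.subgroupOf (N.comap (QuotientGroup.mk' R))) := by
        intro x hx
        rw [mem_subgroupOf]
        have h3 : f x = 1 := hx
        have h4 : (QuotientGroup.mk' R) (x : G) = 1 := congrArg Subtype.val h3
        rwa [← MonoidHom.mem_ker, QuotientGroup.ker_mk'] at h4
      have h5 : Group.IsSolvable ↥(R.subgroupOf (N.comap (QuotientGroup.mk' R))) := by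
        let g : ↥(R.subgroupOf (N.comap (QuotientGroup.mk' R))) →* R :=
          (N.comap (QuotientGroup.mk' R)).subtype.subgroupComap R
        apply Group.isSolvable_of_isSolvable_injective (f := g)
        intro x y hxy
        apply Subtype.ext
        apply Subtype.ext
        have h6 : ((g x : R) : G) = ((g y : R) : G) := by rw [hxy]
        exact h6
      exact Group.isSolvable_of_isSolvable_injective (Subgroup.inclusion_injective this)
    exact Group.isSolvable_of_ker_le_range f.ker.subtype f (by rw [Subgroup.range_subtype])
  have h3 := hmax _ h1 h2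
  have h4 := Subgroup.map_mono (f := QuotientGroup.mk' R) h3
  rw [Subgroup.map_comap_eq_self_of_surjective (QuotientGroup.mk'_surjective _)] at h4
  rw [eq_bot_iff]
  refine h4.trans ?_
  rw [Subgroup.map_le_iff_le_comap, MonoidHom.comap_bot, QuotientGroup.ker_mk']

variable {G : Type*} [Group G] [Finite G]

omit [Finite G] in
/-- If normal solvable subgroups are trivial, the Fitting subgroup is trivial. -/
theorem fitting_eq_bot (h : ∀ N : Subgroup G, N.Normal → Group.IsSolvable N → N = ⊥) :
    fittingSubgroup G = ⊥ := by
  rw [eq_bot_iff]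
  apply sSup_le
  rintro N ⟨h1, h2⟩
  have h3 := h2
  exact (h N h1 inferInstance).le

/-- If normal solvable subgroups are trivial, the centralizer of the layer is trivial. -/
theorem centralizer_layer (h : ∀ N : Subgroup G, N.Normal → Group.IsSolvable N → N = ⊥) :
    centralizer (layer G : Set G) = ⊥ := by
  have h1 := fitting_eq_bot h
  have h2 := Cfsg.Agent.TwoFusion.FStarControl.centralizer_genFitting_le_fitting (H := G)
  rw [h1] at h2
  have h3 : generalizedFittingSubgroup G = layer G := by
    show layer G ⊔ fittingSubgroup G = layer G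
    rw [h1, sup_bot_eq]
  rw [h3] at h2
  exact le_bot_iff.1 h2

omit [Finite G] in
/-- Elements acting on a normal subgroup like an element of it, if its centralizer is trivial. -/
theorem mem_of_conj_eq {S : Subgroup G} (hc : centralizer (S : Set G) = ⊥) {g s : G} (hs : s ∈ S)
    (h : ∀ x ∈ S, g * x * g⁻¹ = s * x * s⁻¹) : g ∈ S := by
  have h1 : s⁻¹ * g ∈ centralizer (S : Set G) := by
    rw [mem_centralizer_iff]
    intro x hx
    have h2 := h x hx
    have h3 : s⁻¹ * (g * x * g⁻¹) * g = s⁻¹ * (s * x * s⁻¹) * g := by rw [h2]
    have h4 : s⁻¹ * g * x = x * (s⁻¹ * g) := by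
      calc s⁻¹ * g * x = s⁻¹ * (g * x * g⁻¹) * g := by group
        _ = s⁻¹ * (s * x * s⁻¹) * g := h3
        _ = x * (s⁻¹ * g) := by group
    exact h4.symm
  rw [hc, mem_bot] at h1
  have h2 : g = s := by
    have := congrArg (fun t => s * t) h1
    simpa using this
  rw [h2]; exact hs

/-- **The quotient of an almost simple group by its socle is solvable.** -/
theorem isSolvable_quotient (S : Subgroup G) [S.Normal] [IsSimpleGroup S]
    (hc : centralizer (S : Set G) = ⊥) : Group.IsSolvable (G ⧸ S) := by
  let φ : G →* MulAut S := MulAut.conjNormal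
  let ψ : G →* Cfsg.Out S := (QuotientGroup.mk' (Cfsg.Inn S)).comp φ
  have hk : ψ.ker = S := by
    ext g
    rw [MonoidHom.mem_ker]
    constructor
    · intro h
      have h1 : φ g ∈ Cfsg.Inn S := by
        have : (QuotientGroup.mk' (Cfsg.Inn S)) (φ g) = 1 := h
        rwa [← MonoidHom.mem_ker, QuotientGroup.ker_mk'] at this
      obtain ⟨s, hs⟩ := h1
      apply mem_of_conj_eq hc s.2
      intro x hx
      have h2 := congrArg (fun t : MulAut S => ((t ⟨x, hx⟩ : S) : G)) hs
      simp only [MulAut.conj_apply] at h2
      simpa [φ] using h2.symm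
    · intro hg
      have : φ g ∈ Cfsg.Inn S := by
        refine ⟨⟨g, hg⟩, ?_⟩
        ext x
        simp [φ]
      show (QuotientGroup.mk' (Cfsg.Inn S)) (φ g) = 1
      rw [← MonoidHom.mem_ker, QuotientGroup.ker_mk']
      exact this
  have hsol : Group.IsSolvable (Cfsg.Out S) := Cfsg.Agent.S5758.result
  have h2 : Group.IsSolvable (G ⧸ ψ.ker) :=
    Group.isSolvable_of_isSolvable_injective (f := QuotientGroup.kerLift ψ) (QuotientGroup.kerLift_injective ψ)
  exact Group.isSolvable_of_surjective (f := (QuotientGroup.quotientMulEquivOfEq hk).toMonoidHom)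
    (QuotientGroup.quotientMulEquivOfEq hk).surjective

end Cfsg.Agent.H478.AlmostSimple
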