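import Mathlib

/-!
# Involutions of alternating groups of degree at least 6

Every involution `z` of `A_m`, `m ≥ 6`, lies in the commutator subgroup of its centralizer in `A_m`
(`mem_commutator`).
-/

set_option autoImplicit false

namespace Cfsg.Agent.H478.AltInv

open Equiv Equiv.Perm Subgroup

variable {α : Type*} [DecidableEq α] [Fintype α]

/-- The centralizer of `z` in the alternating group. -/
def C (z : Perm α) : Subgroup (Perm α) := alternatingGroup α ⊓ centralizer {z}

theorem mem_C {z w : Perm α} : w ∈ C z ↔ sign w = 1 ∧ z * w = w * z := by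
  rw [C, mem_inf, mem_alternatingGroup, mem_centralizer_singleton_iff, eq_comm (a := w * z)]

theorem swap_comm {z : Perm α} {a b : α} (h : z a = b ∧ z b = a ∨ z a = a ∧ z b = b) :
    z * swap a b = swap a b * z := by
  have h1 : z * swap a b * z⁻¹ = swap (z a) (z b) := (swap_apply_apply z a b).symm
  rcases h with ⟨h2, h3⟩ | ⟨h2, h3⟩
  · rw [h2, h3, Equiv.swap_comm b a] at h1
    exact mul_inv_eq_iff_eq_mul.1 h1
  · rw [h2, h3] at h1
    exact mul_inv_eq_iff_eq_mul.1 h1

/-- The basic commutator. -/
theorem pair_mem {z : Perm α} {a b c d e f : α} (hza : z a = b) (hzb : z b = a) (hzc : z c = d) (hzd : z d = c)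
    (hef : z e = f ∧ z f = e ∨ z e = e ∧ z f = f)
    (hab : a ≠ b) (hac : a ≠ c) (had : a ≠ d) (hbc : b ≠ c) (hbd : b ≠ d) (hcd : c ≠ d) (hefn : e ≠ f)
    (hae : a ≠ e) (hbe : b ≠ e) (hce : c ≠ e) (hde : d ≠ e) (haf : a ≠ f) (hbf : b ≠ f) (hcf : c ≠ f)
    (hdf : d ≠ f) : swap a b * swap c d ∈ ⁅C z, C z⁆ := by
  have hu : swap a b * swap e f ∈ C z := by
    rw [mem_C]
    refine ⟨by simp [sign_swap hab, sign_swap hefn], ?_⟩
    have h1 := swap_comm (z := z) (a := a) (b := b) (Or.inl ⟨hza, hzb⟩)
    have h2 := swap_comm (z := z) (a := e) (b := f) hef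
    calc z * (swap a b * swap e f) = z * swap a b * swap e f := by group
      _ = swap a b * (z * swap e f) := by rw [h1]; group
      _ = swap a b * swap e f * z := by rw [h2]; group
  have hv : swap a c * swap b d ∈ C z := by
    rw [mem_C]
    refine ⟨by simp [sign_swap hac, sign_swap hbd], ?_⟩
    have h1 : z * swap a c * z⁻¹ = swap b d := by
      rw [← swap_apply_apply, hza, hzc]
    have h2 : z * swap b d * z⁻¹ = swap a c := by
      rw [← swap_apply_apply, hzb, hzd]
    have h3 : swap b d * swap a c = swap a c * swap b d := by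
      apply Disjoint.commute
      rw [disjoint_iff_disjoint_support, support_swap hbd, support_swap hac]
      simp [Finset.disjoint_left, hab.symm, hbc, had.symm, hcd.symm]
    have h4 : z * (swap a c * swap b d) * z⁻¹ = swap a c * swap b d := by
      calc z * (swap a c * swap b d) * z⁻¹ = (z * swap a c * z⁻¹) * (z * swap b d * z⁻¹) := by group
        _ = swap a c * swap b d := by rw [h1, h2, h3]
    calc z * (swap a c * swap b d) = z * (swap a c * swap b d) * z⁻¹ * z := by group
      _ = swap a c * swap b d * z := by rw [h4]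
  have key : swap a b * swap c d = (swap a b * swap e f) * (swap a c * swap b d) *
      (swap a b * swap e f)⁻¹ * (swap a c * swap b d)⁻¹ := by
    have h1 : (swap a c * swap b d) * (swap a b * swap e f)⁻¹ * (swap a c * swap b d)⁻¹ =
        swap e f * swap c d := by
      have e1 : (swap a b * swap e f)⁻¹ = swap e f * swap a b := by
        rw [mul_inv_rev, swap_inv, swap_inv]
      have g : ∀ x, (swap a c * swap b d) x = swap a c (swap b d x) := fun x => rfl
      have ga : (swap a c * swap b d) a = c := by
        rw [g, swap_apply_of_ne_of_ne hab had, swap_apply_left]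
      have gb : (swap a c * swap b d) b = d := by
        rw [g, swap_apply_left, swap_apply_of_ne_of_ne had.symm hcd.symm]
      have ge : (swap a c * swap b d) e = e := by
        rw [g, swap_apply_of_ne_of_ne hbe.symm hde.symm, swap_apply_of_ne_of_ne hae.symm hce.symm]
      have gf : (swap a c * swap b d) f = f := by
        rw [g, swap_apply_of_ne_of_ne hbf.symm hdf.symm, swap_apply_of_ne_of_ne haf.symm hcf.symm]
      rw [e1]
      calc (swap a c * swap b d) * (swap e f * swap a b) * (swap a c * swap b d)⁻¹
          = ((swap a c * swap b d) * swap e f * (swap a c * swap b d)⁻¹) *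
            ((swap a c * swap b d) * swap a b * (swap a c * swap b d)⁻¹) := by group
        _ = swap e f * swap c d := by
          rw [← swap_apply_apply, ← swap_apply_apply, ga, gb, ge, gf]
    calc swap a b * swap c d = swap a b * swap e f * (swap e f * swap c d) := by
          rw [mul_assoc, ← mul_assoc (swap e f), swap_mul_self, one_mul]
      _ = swap a b * swap e f * ((swap a c * swap b d) * (swap a b * swap e f)⁻¹ * (swap a c * swap b d)⁻¹) := by
          rw [h1]
      _ = _ := by group
  rw [key, ← commutatorElement_def]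
  exact Subgroup.commutator_mem_commutator hu hv

/-- Products of an even number of 2-cycles of the involution `z`. -/
theorem partial_mem (h6 : 6 ≤ Fintype.card α) {z : Perm α} (hz : ∀ x, z (z x) = x) :
    ∀ (n : ℕ) (w : Perm α), w.support.card ≤ n → sign w = 1 → (∀ x, w x = x ∨ w x = z x) →
      w ∈ ⁅C z, C z⁆ := by
  intro n
  induction n with
  | zero =>
    intro w hw _ _
    have : w = 1 := by
      rw [← card_support_eq_zero]
      omega
    rw [this]
    exact one_mem _
  | succ n ih =>
    intro w hw hs hp
    by_cases h1 : w = 1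
    · rw [h1]; exact one_mem _
    obtain ⟨a, ha⟩ : ∃ a, w a ≠ a := by
      by_contra hcon
      push Not at hcon
      exact h1 (Equiv.ext hcon)
    have hwa : w a = z a := (hp a).resolve_left ha
    have hwza : w (z a) = a := by
      rcases hp (z a) with h | h
      · exfalso
        apply ha
        rw [← hwa] at h
        exact w.injective h
      · rw [h, hz]
    have hzaa : z a ≠ a := by rw [← hwa]; exact ha
    -- another 2-cycle
    obtain ⟨c, hca, hcb, hc⟩ : ∃ c, c ≠ a ∧ c ≠ z a ∧ w c ≠ c := by
      by_contra hcon
      push Not at hcon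
      have h2 : w = swap a (z a) := by
        ext x
        by_cases hxa : x = a
        · rw [hxa, swap_apply_left, hwa]
        by_cases hxb : x = z a
        · rw [hxb, swap_apply_right, hwza]
        rw [swap_apply_of_ne_of_ne hxa hxb]
        exact hcon x hxa hxb
      rw [h2, sign_swap hzaa.symm] at hs
      exact absurd hs (by decide)
    have hwc : w c = z c := (hp c).resolve_left hc
    have hwzc : w (z c) = c := by
      rcases hp (z c) with h | h
      · exfalso
        apply hc
        rw [← hwc] at h
        exact w.injective h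
      · rw [h, hz]
    have hzcc : z c ≠ c := by rw [← hwc]; exact hc
    have had : a ≠ z c := by
      intro h
      apply hcb
      rw [h, hz]
    have hbd : z a ≠ z c := fun h => hca (z.injective h).symm
    -- the third pair
    have hcard4 : ({a, z a, c, z c} : Finset α).card ≤ 4 := Finset.card_le_four
    obtain ⟨e, he⟩ : ∃ e, e ∉ ({a, z a, c, z c} : Finset α) := by
      by_contra hcon
      push Not at hcon
      have : Fintype.card α ≤ ({a, z a, c, z c} : Finset α).card := by
        rw [← Finset.card_univ]
        exact Finset.card_le_card (fun x _ => hcon x)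
      omega
    obtain ⟨e', he'⟩ : ∃ e', e' ∉ ({e, a, z a, c, z c} : Finset α) := by
      by_contra hcon
      push Not at hcon
      have h5 : Fintype.card α ≤ ({e, a, z a, c, z c} : Finset α).card := by
        rw [← Finset.card_univ]
        exact Finset.card_le_card (fun x _ => hcon x)
      have := Finset.card_insert_le e ({a, z a, c, z c} : Finset α)
      omega
    simp only [Finset.mem_insert, Finset.mem_singleton, not_or] at he he'
    have hout : ∀ x, x ≠ a → x ≠ z a → x ≠ c → x ≠ z c →
        z x ≠ a ∧ z x ≠ z a ∧ z x ≠ c ∧ z x ≠ z c := by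
      intro x h1 h2 h3 h4
      refine ⟨fun h => h2 ?_, fun h => h1 (z.injective h), fun h => h4 ?_, fun h => h3 (z.injective h)⟩
      · rw [← h, hz]
      · rw [← h, hz]
    have hex : ∃ e f : α, (z e = f ∧ z f = e ∨ z e = e ∧ z f = f) ∧ e ≠ f ∧
        e ≠ a ∧ e ≠ z a ∧ e ≠ c ∧ e ≠ z c ∧ f ≠ a ∧ f ≠ z a ∧ f ≠ c ∧ f ≠ z c := by
      by_cases hze : z e = e
      · by_cases hze' : z e' = e'
        · exact ⟨e, e', Or.inr ⟨hze, hze'⟩, Ne.symm he'.1, he.1, he.2.1, he.2.2.1, he.2.2.2,
            he'.2.1, he'.2.2.1, he'.2.2.2.1, he'.2.2.2.2⟩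
        · obtain ⟨h1, h2, h3, h4⟩ := hout e' he'.2.1 he'.2.2.1 he'.2.2.2.1 he'.2.2.2.2
          exact ⟨e', z e', Or.inl ⟨rfl, hz _⟩, Ne.symm hze',
            he'.2.1, he'.2.2.1, he'.2.2.2.1, he'.2.2.2.2, h1, h2, h3, h4⟩
      · obtain ⟨h1, h2, h3, h4⟩ := hout e he.1 he.2.1 he.2.2.1 he.2.2.2
        exact ⟨e, z e, Or.inl ⟨rfl, hz _⟩, Ne.symm hze,
            he.1, he.2.1, he.2.2.1, he.2.2.2, h1, h2, h3, h4⟩
    obtain ⟨e, f, hef, hefn, e1, e2, e3, e4, f1, f2, f3, f4⟩ := hex
    have hτ : swap a (z a) * swap c (z c) ∈ ⁅C z, C z⁆ :=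
      pair_mem (a := a) (b := z a) (c := c) (d := z c) (e := e) (f := f) rfl (hz a) rfl (hz c) hef
        hzaa.symm hca.symm had hcb.symm hbd hzcc.symm hefn e1.symm e2.symm e3.symm e4.symm
        f1.symm f2.symm f3.symm f4.symm
    -- the remaining part
    set τ := swap a (z a) * swap c (z c) with hτdef
    have hτv : ∀ x, τ x = swap a (z a) (swap c (z c) x) := fun x => rfl
    have hττ : τ * τ = 1 := by
      have hd : swap c (z c) * swap a (z a) = swap a (z a) * swap c (z c) := by
        apply Disjoint.commute
        rw [disjoint_iff_disjoint_support, support_swap hzcc.symm, support_swap hzaa.symm]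
        simp [Finset.disjoint_left, hca, hcb, had.symm, hbd.symm]
      rw [hτdef]
      calc swap a (z a) * swap c (z c) * (swap a (z a) * swap c (z c))
          = swap a (z a) * (swap c (z c) * swap a (z a)) * swap c (z c) := by group
        _ = (swap a (z a) * swap a (z a)) * (swap c (z c) * swap c (z c)) := by rw [hd]; group
        _ = 1 := by rw [swap_mul_self, swap_mul_self, one_mul]
    have hval : ∀ x, (τ * w) x = if w x = x ∨ x = a ∨ x = z a ∨ x = c ∨ x = z c then x else w x := by
      intro x
      have h0 : (τ * w) x = swap a (z a) (swap c (z c) (w x)) := rfl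
      by_cases hxa : x = a
      · subst hxa
        rw [h0, hwa, swap_apply_of_ne_of_ne hcb.symm hbd, swap_apply_right]
        simp
      by_cases hxb : x = z a
      · subst hxb
        rw [h0, hwza, swap_apply_of_ne_of_ne hca.symm had, swap_apply_left]
        simp
      by_cases hxc : x = c
      · subst hxc
        rw [h0, hwc, swap_apply_right, swap_apply_of_ne_of_ne hca hcb]
        simp
      by_cases hxd : x = z c
      · subst hxd
        rw [h0, hwzc, swap_apply_left, swap_apply_of_ne_of_ne had.symm hbd.symm]
        simp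
      by_cases hx : w x = x
      · rw [h0, hx, swap_apply_of_ne_of_ne hxc hxd, swap_apply_of_ne_of_ne hxa hxb]
        simp
      · have h2 : w x = z x := (hp x).resolve_left hx
        obtain ⟨h3, h4, h5, h6⟩ := hout x hxa hxb hxc hxd
        rw [h0, h2, swap_apply_of_ne_of_ne h5 h6, swap_apply_of_ne_of_ne h3 h4, if_neg]
        rw [← h2]
        simp [hxa, hxb, hxc, hxd, hx]
    have hrec : τ * w ∈ ⁅C z, C z⁆ := by
      apply ih
      · have hlt : (τ * w).support ⊂ w.support := by
          rw [Finset.ssubset_iff_of_subset]
          · refine ⟨a, mem_support.2 ha, ?_⟩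
            rw [notMem_support, hval]
            simp
          · intro x hx
            rw [mem_support, hval] at hx
            rw [mem_support]
            intro h
            apply hx
            simp [h]
        have := Finset.card_lt_card hlt
        omega
      · rw [map_mul, hs, hτdef, map_mul, sign_swap hzaa.symm, sign_swap hzcc.symm]
        decide
      · intro x
        rw [hval]
        split_ifs with h
        · exact Or.inl rfl
        · exact hp x
    have h2 : w = τ * (τ * w) := by rw [← mul_assoc, hττ, one_mul]
    rw [h2]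
    exact mul_mem hτ hrec

/-- **Involutions of `A_m`, `m ≥ 6`, are commutators in their centralizer.** -/
theorem mem_commutator (h6 : 6 ≤ Fintype.card α) {z : Perm α} (hz : z * z = 1) (hs : sign z = 1) :
    z ∈ ⁅C z, C z⁆ :=
  partial_mem h6 (fun x => by
    have := Equiv.congr_fun hz x
    exact this) _ z le_rfl hs (fun _ => Or.inr rfl)

/-- The version inside the alternating group. -/
theorem mem_commutator_alt (h6 : 6 ≤ Fintype.card α) (z : alternatingGroup α) (hz : z * z = 1) :
    z ∈ ⁅centralizer ({z} : Set (alternatingGroup α)), centralizer ({z} : Set (alternatingGroup α))⁆ := by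
  have h1 := mem_commutator h6 (z := (z : Perm α)) (by rw [← Subgroup.coe_mul, hz]; rfl)
    (mem_alternatingGroup.1 z.2)
  have h2 : C (z : Perm α) ≤ (centralizer ({z} : Set (alternatingGroup α))).map (alternatingGroup α).subtype := by
    intro w hw
    rw [mem_C] at hw
    refine ⟨⟨w, mem_alternatingGroup.2 hw.1⟩, ?_, rfl⟩
    rw [SetLike.mem_coe, mem_centralizer_singleton_iff]
    exact Subtype.ext hw.2.symm
  have h3 := commutator_mono h2 h2 h1
  rw [← map_commutator] at h3
  obtain ⟨y, hy, hyz⟩ := h3
  have h4 : y = z := Subtype.ext hyz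
  rw [← h4] at hy ⊢
  exact hy

end Cfsg.Agent.H478.AltInv
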