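import Cfsg.Prelude.Def_LieTwisted
import Cfsg.Agent.S1101
import Cfsg.Agent.S1154
import Cfsg.Agent.S3908
import Cfsg.Agent.S0813
import Cfsg.Agent.ClassicalGeometry.KleinCount
import Cfsg.Agent.ClassicalGeometry.PSL2KleinConj
import Cfsg.Agent.ClassicalGeometry.PSL2Basic
import Cfsg.Agent.H478.KleinEven

/-!
# Groups whose abelian subgroups of equal order are conjugate: normal subgroups `²G₂(q)` and `PSL(2, 2^n)`
-/

set_option autoImplicit false

namespace Cfsg.Agent.H478.BGroup

open Cfsg Subgroup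

/-- A small Ree group contains an element of order 9 and an abelian subgroup of order 9 and exponent 3. -/
theorem ree_facts {M : Type*} [Group M] (h : Cfsg.Lie.IsoRee M) :
    (∃ x : M, orderOf x = 9) ∧ ∃ E : Subgroup M, IsMulCommutative ↥E ∧ Nat.card ↥E = 9 ∧ ∀ x ∈ E, x ^ 3 = 1 := by
  classical
  obtain ⟨K, i1, i2, m, hm, hK, ⟨e⟩⟩ := h
  have h3 : Fact (Nat.Prime 3) := ⟨Nat.prime_three⟩
  obtain ⟨-, hcard⟩ := Cfsg.Agent.S1101.result (K := K) (m := m) hK
  have hthree := Cfsg.Agent.S1154.result hm hK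
  set U := Cfsg.Lie.chevG2.posUnipotent K ⊓ Cfsg.Lie.twistedG2 K (3 ^ m) with hU
  have hfin : Finite U := Nat.finite_of_card_ne_zero (by rw [hcard]; positivity)
  have hft : Fintype U := Fintype.ofFinite U
  have hUp : IsPGroup 3 U := IsPGroup.of_card (n := (2 * m + 1) * 3) (by rw [hcard, ← pow_mul])
  let f : U →* M := e.symm.toMonoidHom.comp (Subgroup.inclusion (inf_le_right : U ≤ _))
  have hf : Function.Injective f :=
    e.symm.injective.comp (Subgroup.inclusion_injective _)
  set Q := 3 ^ (2 * m + 1) with hQ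
  have hQ27 : 27 ≤ Q := by
    calc 27 = 3 ^ 3 := by norm_num
      _ ≤ 3 ^ (2 * m + 1) := Nat.pow_le_pow_right (by norm_num) (by omega)
  constructor
  · -- an element of order 9
    have hex : ∃ u : U, orderOf u ≠ 1 ∧ orderOf u ≠ 3 := by
      by_contra hcon
      push Not at hcon
      have h1 : Nat.card U ≤ Nat.card {u : U // orderOf u = 3} + 1 := by
        have hsub : (Finset.univ : Finset U) ⊆ insert 1 (Finset.univ.filter fun u : U => orderOf u = 3) := by
          intro u _
          by_cases hu : orderOf u = 1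
          · rw [orderOf_eq_one_iff.1 hu]; exact Finset.mem_insert_self _ _
          · exact Finset.mem_insert_of_mem (Finset.mem_filter.2 ⟨Finset.mem_univ _, hcon u hu⟩)
        have h2 := (Finset.card_le_card hsub).trans (Finset.card_insert_le _ _)
        rw [Finset.card_univ] at h2
        have e1 : Nat.card U = Fintype.card U := Nat.card_eq_fintype_card
        have e2 : Nat.card {u : U // orderOf u = 3} = (Finset.univ.filter fun u : U => orderOf u = 3).card := by
          rw [Nat.card_eq_fintype_card, Fintype.card_subtype]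
        rw [e1, e2]
        exact h2
      rw [hcard, hthree] at h1
      have h2 : 1 ≤ Q ^ 2 := Nat.one_le_pow _ _ (by omega)
      have h3 : Q ^ 2 < Q ^ 3 := Nat.pow_lt_pow_right (by omega) (by norm_num)
      omega
    obtain ⟨u, hu1, hu3⟩ := hex
    obtain ⟨k, hk⟩ := (IsPGroup.iff_orderOf.1 hUp) u
    have hk2 : 2 ≤ k := by
      by_contra hcon
      push Not at hcon
      interval_cases k
      · exact hu1 (by simpa using hk)
      · exact hu3 (by simpa using hk)
    refine ⟨f (u ^ (3 ^ (k - 2))), ?_⟩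
    rw [orderOf_injective f hf, orderOf_pow_of_dvd (by positivity) (by rw [hk]; exact pow_dvd_pow 3 (by omega)), hk,
      Nat.pow_div (by omega) (by norm_num)]
    have : k - (k - 2) = 2 := by omega
    rw [this]
  · -- two different subgroups of order 3
    have hex : ∃ u v : U, orderOf u = 3 ∧ orderOf v = 3 ∧ zpowers u ≠ zpowers v := by
      by_contra hcon
      push Not at hcon
      have h0 : 0 < Nat.card {u : U // orderOf u = 3} := by
        rw [hthree]
        have h2 : 1 < Q ^ 2 := Nat.one_lt_pow (by norm_num) (by omega)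
        omega
      obtain ⟨⟨u, hu⟩⟩ := (Nat.card_pos_iff.1 h0).1
      have h1 : Nat.card {u : U // orderOf u = 3} ≤ Nat.card (zpowers u) := by
        apply Nat.card_le_card_of_injective (fun v : {u : U // orderOf u = 3} =>
          (⟨v.1, by rw [hcon u v.1 hu v.2]; exact mem_zpowers v.1⟩ : zpowers u))
        intro v w hvw
        apply Subtype.ext
        simpa using hvw
      rw [hthree, Nat.card_zpowers, hu] at h1
      have h2 : 27 ^ 2 ≤ Q ^ 2 := Nat.pow_le_pow_left hQ27 2
      omega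
    obtain ⟨u, v, hu, hv, huv⟩ := hex
    obtain ⟨E, hE1, hE2, hE3⟩ := Cfsg.Agent.S3908.exists_elementary 3 hUp (zpowers u) (zpowers v)
      (by rw [Nat.card_zpowers, hu]) (by rw [Nat.card_zpowers, hv]) huv
    refine ⟨E.map f, ?_, ?_, ?_⟩
    · infer_instance
    · rw [← Nat.card_congr (E.equivMapOfInjective f hf).toEquiv, hE2]
      norm_num
    · rintro _ ⟨x, hx, rfl⟩
      rw [← map_pow, hE3 x hx, map_one]

variable {G : Type*} [Group G]

/-- If abelian subgroups of equal order are conjugate, an element of order `p ^ 2` and an abelian subgroup of order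
`p ^ 2` and exponent `p` exclude each other. -/
theorem false_of_both
    (hB : ∀ A B : Subgroup G, IsMulCommutative ↥A → IsMulCommutative ↥B → Nat.card ↥A = Nat.card ↥B →
      ∃ g : G, B = A.map (MulAut.conj g).toMonoidHom) {p : ℕ} (hp : p.Prime) {x : G} (hx : orderOf x = p ^ 2)
    {E : Subgroup G} (hE1 : IsMulCommutative ↥E) (hE2 : Nat.card ↥E = p ^ 2) (hE3 : ∀ x ∈ E, x ^ p = 1) : False := by
  obtain ⟨g, hg⟩ := hB (zpowers x) E inferInstance hE1 (by rw [Nat.card_zpowers, hx, hE2])
  have h1 : (MulAut.conj g) x ∈ E := by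
    rw [hg]; exact ⟨x, mem_zpowers x, rfl⟩
  have h2 := hE3 _ h1
  rw [← map_pow] at h2
  have h3 : x ^ p = 1 := (MulAut.conj g).injective (h2.trans (map_one _).symm)
  have h4 := orderOf_dvd_of_pow_eq_one h3
  rw [hx] at h4
  have h5 := Nat.le_of_dvd hp.pos h4
  nlinarith [hp.two_le]

/-- The arithmetic of the even case. -/
theorem arith {n a : ℕ} (hn : 2 ≤ n) (h : ((2 ^ n) ^ 2 - 1) * (2 ^ n - 2) = 6 * a)
    (hd : a ∣ n * (2 ^ n * ((2 ^ n) ^ 2 - 1))) : n = 2 ∨ n = 3 ∨ n = 5 := by
  obtain ⟨k, rfl⟩ := Nat.exists_eq_add_of_le hn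
  have hpos : 0 < (2 ^ (2 + k)) ^ 2 - 1 := by
    have : 4 ≤ 2 ^ (2 + k) := by
      calc 4 = 2 ^ 2 := by norm_num
        _ ≤ 2 ^ (2 + k) := Nat.pow_le_pow_right (by norm_num) (by omega)
    have h2 : 4 ^ 2 ≤ (2 ^ (2 + k)) ^ 2 := Nat.pow_le_pow_left this 2
    omega
  have h1 : ((2 ^ (2 + k)) ^ 2 - 1) * (2 ^ (2 + k) - 2) ∣
      ((2 ^ (2 + k)) ^ 2 - 1) * (6 * ((2 + k) * 2 ^ (2 + k))) := by
    rw [h]
    calc 6 * a ∣ 6 * ((2 + k) * (2 ^ (2 + k) * ((2 ^ (2 + k)) ^ 2 - 1))) := Nat.mul_dvd_mul_left 6 hd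
      _ = ((2 ^ (2 + k)) ^ 2 - 1) * (6 * ((2 + k) * 2 ^ (2 + k))) := by ring
  have h2 := Nat.dvd_of_mul_dvd_mul_left hpos h1
  have h3 : 2 ^ (2 + k) - 2 = 2 * (2 ^ (1 + k) - 1) := by
    rw [show 2 + k = (1 + k) + 1 by ring, pow_succ]; omega
  rw [h3, show 6 * ((2 + k) * 2 ^ (2 + k)) = 2 * ((3 * (2 + k)) * 2 ^ (2 + k)) by ring] at h2
  have h4 := Nat.dvd_of_mul_dvd_mul_left (by norm_num) h2
  have hco : Nat.Coprime (2 ^ (1 + k) - 1) (2 ^ (2 + k)) := by
    apply Nat.Coprime.pow_right
    rw [Nat.coprime_two_right]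
    refine ⟨2 ^ k - 1, ?_⟩
    have : 1 ≤ 2 ^ k := Nat.one_le_two_pow
    rw [show 1 + k = k + 1 by ring, pow_succ]
    omega
  have h5 := hco.dvd_of_dvd_mul_right h4
  have h6 := Nat.le_of_dvd (by omega) h5
  have hk : k < 4 := by
    by_contra hcon
    push Not at hcon
    have : ∀ j : ℕ, 3 * (2 + (4 + j)) < 2 ^ (1 + (4 + j)) - 1 := by
      intro j
      induction j with
      | zero => norm_num
      | succ j ih =>
        have : 2 ^ (1 + (4 + (j + 1))) = 2 * 2 ^ (1 + (4 + j)) := by ring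
        omega
    obtain ⟨j, rfl⟩ := Nat.exists_eq_add_of_le hcon
    have := this j
    omega
  interval_cases k
  · left; rfl
  · right; left; rfl
  · norm_num at h5
  · right; right; rfl

/-- **The even case**: if all Klein four-subgroups of the finite group `G` are conjugate and lie in the normal
subgroup `M ≅ PSL(2, 2^n)`, `n ≥ 2`, then `n` is 2, 3 or 5. -/
theorem even_case [Finite G] (M : Subgroup G) [M.Normal] {F : Type} [Field F] [Fintype F] {n : ℕ} (hn : 2 ≤ n)
    (hF : Fintype.card F = 2 ^ n) (e : M ≃* Matrix.ProjectiveSpecialLinearGroup (Fin 2) F)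
    {V : Subgroup G} (hV : IsKleinFour V) (hVM : V ≤ M)
    (hall : ∀ W : Subgroup G, IsKleinFour W → ∃ a : G, W = V.map (MulAut.conj a).toMonoidHom) :
    n = 2 ∨ n = 3 ∨ n = 5 := by
  have h2 : Fact (Nat.Prime 2) := ⟨Nat.prime_two⟩
  have hchar : CharP F 2 := charP_of_card_eq_prime_pow hF
  -- the number of four-groups of `G`
  have hidx := Cfsg.Agent.ClassicalGeometry.PSL2KleinConj.index_normalizer_eq hV hall
  -- they all lie in `M`
  have hle : ∀ W : Subgroup G, IsKleinFour W → W ≤ M := by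
    intro W hW
    obtain ⟨a, rfl⟩ := hall W hW
    rintro _ ⟨v, hv, rfl⟩
    exact (inferInstance : M.Normal).conj_mem v (hVM hv) a
  let L := Matrix.SpecialLinearGroup (Fin 2) F
  let e' : M ≃* L := e.trans Cfsg.Agent.H478.KleinEven.pslEquiv
  have hcL := Cfsg.Agent.H478.KleinEven.card_commInv (F := F)
  rw [Nat.card_eq_fintype_card (α := F), hF] at hcL
  -- pairs of commuting involutions of `G`
  have hcG : Nat.card {p : G × G // Cfsg.Agent.ClassicalGeometry.KleinCount.CommInv p.1 p.2} =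
      ((2 ^ n) ^ 2 - 1) * (2 ^ n - 2) := by
    rw [← hcL]
    symm
    have hmem : ∀ p : {p : G × G // Cfsg.Agent.ClassicalGeometry.KleinCount.CommInv p.1 p.2},
        p.1.1 ∈ M ∧ p.1.2 ∈ M := by
      intro p
      have h1 := hle _ p.2.isKleinFour_four
      exact ⟨h1 (p.2.mem_four.2 (Or.inr (Or.inl rfl))), h1 (p.2.mem_four.2 (Or.inr (Or.inr (Or.inl rfl))))⟩
    refine Nat.card_congr (Equiv.ofBijective (fun p => ⟨((e'.symm p.1.1 : M), (e'.symm p.1.2 : M)), ?_⟩) ⟨?_, ?_⟩)
    · obtain ⟨⟨x, y⟩, h⟩ := p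
      refine ⟨?_, ?_, ?_, ?_, ?_, ?_⟩
      · intro h1
        apply h.hx
        have h1' : e'.symm x = 1 := Subtype.ext h1
        exact (MulEquiv.map_eq_one_iff e'.symm).1 h1'
      · intro h1
        apply h.hy
        have h1' : e'.symm y = 1 := Subtype.ext h1
        exact (MulEquiv.map_eq_one_iff e'.symm).1 h1'
      · intro h1
        exact h.hxy (e'.symm.injective (Subtype.ext h1))
      · show ((e'.symm x : M) : G) * (e'.symm x : M) = 1
        rw [← Subgroup.coe_mul, ← map_mul, h.xx, map_one]; rfl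
      · show ((e'.symm y : M) : G) * (e'.symm y : M) = 1
        rw [← Subgroup.coe_mul, ← map_mul, h.yy, map_one]; rfl
      · show ((e'.symm x : M) : G) * (e'.symm y : M) = (e'.symm y : M) * (e'.symm x : M)
        rw [← Subgroup.coe_mul, ← map_mul, h.comm, map_mul, Subgroup.coe_mul]
    · rintro ⟨⟨x, y⟩, h⟩ ⟨⟨z, w⟩, h'⟩ heq
      have h1 := congrArg Subtype.val heq
      have h3 : x = z := e'.symm.injective (Subtype.ext (congrArg Prod.fst h1))
      have h4 : y = w := e'.symm.injective (Subtype.ext (congrArg Prod.snd h1))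
      subst h3; subst h4; rfl
    · rintro ⟨⟨x, y⟩, h⟩
      obtain ⟨hx, hy⟩ := hmem ⟨⟨x, y⟩, h⟩
      refine ⟨⟨(e' ⟨x, hx⟩, e' ⟨y, hy⟩), ?_⟩, ?_⟩
      · refine ⟨?_, ?_, ?_, ?_, ?_, ?_⟩
        · intro h1
          exact h.hx (congrArg Subtype.val ((MulEquiv.map_eq_one_iff e').1 h1))
        · intro h1
          exact h.hy (congrArg Subtype.val ((MulEquiv.map_eq_one_iff e').1 h1))
        · intro h1
          exact h.hxy (congrArg Subtype.val (e'.injective h1))
        · show e' ⟨x, hx⟩ * e' ⟨x, hx⟩ = 1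
          rw [← map_mul]
          have : (⟨x, hx⟩ : M) * ⟨x, hx⟩ = 1 := Subtype.ext h.xx
          rw [this, map_one]
        · show e' ⟨y, hy⟩ * e' ⟨y, hy⟩ = 1
          rw [← map_mul]
          have : (⟨y, hy⟩ : M) * ⟨y, hy⟩ = 1 := Subtype.ext h.yy
          rw [this, map_one]
        · show e' ⟨x, hx⟩ * e' ⟨y, hy⟩ = e' ⟨y, hy⟩ * e' ⟨x, hx⟩
          rw [← map_mul, ← map_mul]
          have : (⟨x, hx⟩ : M) * ⟨y, hy⟩ = ⟨y, hy⟩ * ⟨x, hx⟩ := Subtype.ext h.comm
          rw [this]
      · apply Subtype.ext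
        simp
  have hsix := Cfsg.Agent.ClassicalGeometry.KleinCount.card_commInv (G := G)
  rw [hcG, ← hidx] at hsix
  refine arith hn hsix ?_
  -- the index divides the order of `Aut M`
  let φ : G →* MulAut M := MulAut.conjNormal
  have hker : φ.ker ≤ normalizer (V : Set G) := by
    intro g hg
    rw [mem_normalizer_iff]
    have h3 : ∀ v ∈ M, g * v * g⁻¹ = v := by
      intro v hv
      have h4 : φ g = 1 := hg
      have h5 := congrArg (fun t : MulAut M => ((t ⟨v, hv⟩ : M) : G)) h4
      simpa [φ] using h5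
    intro v
    constructor
    · intro hv
      rw [h3 v (hVM hv)]; exact hv
    · intro hv
      have h4 : g * v * g⁻¹ ∈ M := hVM hv
      have h5 : v ∈ M := by
        have := (inferInstance : M.Normal).conj_mem _ h4 g⁻¹
        simpa [mul_assoc] using this
      rw [h3 v h5] at hv
      exact hv
  have hd1 : (normalizer (V : Set G)).index ∣ Nat.card (MulAut M) := by
    have h3 : (normalizer (V : Set G)).index ∣ φ.ker.index := Subgroup.index_dvd_of_le hker
    have h4 : φ.ker.index = Nat.card φ.range := Subgroup.index_ker φ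
    rw [h4] at h3
    exact h3.trans (Subgroup.card_subgroup_dvd_card _)
  have hd2 : Nat.card (MulAut M) = n * (2 ^ n * ((2 ^ n) ^ 2 - 1)) := by
    have h3 := Cfsg.Agent.S0813.result 2 n (by omega) hF 2 le_rfl (fun _ => by
      calc 4 = 2 ^ 2 := by norm_num
        _ ≤ 2 ^ n := Nat.pow_le_pow_right (by norm_num) hn)
    rw [if_pos rfl, one_mul, Cfsg.Agent.ClassicalGeometry.PSL2Basic.card_PGL2, hF] at h3
    rw [← h3]
    exact Nat.card_congr (MulAut.congr e).toEquiv
  rw [← hd2]
  exact hd1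

end Cfsg.Agent.H478.BGroup
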