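import Cfsg.Agent.H478.WalterAll
import Cfsg.Agent.Cit.Nil.LO.ThreeRee
import Cfsg.Agent.ClassicalGeometry.PSL2Basic
import Cfsg.Agent.NotCT.Orders

/-!
# Elements of order four in simple groups, from the order (helper478)
-/

set_option autoImplicit false

namespace Cfsg.Agent.H478.ExistsFour

open Cfsg Subgroup

/-- a nonabelian simple group of order divisible by 16 which does not have the order of `PSL₂(2ⁿ)` has elements of
order 4 -/
theorem exists_four {G : Type*} [Group G] [Finite G] [IsSimpleGroup G] (hG : ¬ IsMulCommutative G)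
    (h16 : 16 ∣ Nat.card G) {K : ℕ} (hK : ¬ 2 ^ (K + 1) ∣ Nat.card G)
    (hne : ∀ n ∈ List.range (K + 1), Nat.card G ≠ 2 ^ n * ((2 ^ n) ^ 2 - 1)) : ∃ x : G, orderOf x = 2 ^ 2 := by
  by_contra hcon
  push Not at hcon
  rcases H478.WalterAll.iso_of_exponent hG (fun x h => hcon x (by rw [h]; norm_num)) with
    ⟨F, _, _, n, hn, hF, ⟨e⟩⟩ | ⟨F, _, _, hF, h5, ⟨e⟩⟩ | h | h
  · have h1 : Nat.card G = 2 ^ n * ((2 ^ n) ^ 2 - 1) := by
      rw [Nat.card_congr e.toEquiv, ClassicalGeometry.PSL2Basic.card_PSL2_even F (by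
        rw [hF]
        exact (Nat.even_pow.2 ⟨even_two, by omega⟩)), hF]
    refine hne n ?_ h1
    rw [List.mem_range]
    by_contra h2
    apply hK
    rw [h1]
    exact (pow_dvd_pow 2 (by omega)).trans (dvd_mul_right _ _)
  · have hodd : Odd (Fintype.card F) := by
      rw [Nat.odd_iff]
      omega
    have h1 := ClassicalGeometry.PSL2Basic.card_PSL2_odd F hodd
    rw [← Nat.card_congr e.toEquiv] at h1
    obtain ⟨m, hm⟩ := h16
    set q := Fintype.card F with hq
    rw [hm] at h1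
    have h2 : q * (q ^ 2 - 1) % 32 = 0 := by
      rw [← h1]
      omega
    rcases hF with h3 | h3
    · obtain ⟨k, hk⟩ : ∃ k, q = 8 * k + 3 := ⟨q / 8, by omega⟩
      rw [hk] at h2
      have h4 : (8 * k + 3) * ((8 * k + 3) ^ 2 - 1) = 8 * ((8 * k + 3) * (8 * k ^ 2 + 6 * k + 1)) := by
        have : (8 * k + 3) ^ 2 - 1 = 8 * (8 * k ^ 2 + 6 * k + 1) := by
          apply Nat.sub_eq_of_eq_add
          ring
        rw [this]; ring
      rw [h4] at h2
      have h5 : (8 * k + 3) * (8 * k ^ 2 + 6 * k + 1) = 2 * (32 * k ^ 3 + 36 * k ^ 2 + 13 * k + 1) + 1 := by ring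
      rw [h5] at h2
      omega
    · obtain ⟨k, hk⟩ : ∃ k, q = 8 * k + 5 := ⟨q / 8, by omega⟩
      rw [hk] at h2
      have h4 : (8 * k + 5) * ((8 * k + 5) ^ 2 - 1) = 8 * ((8 * k + 5) * (8 * k ^ 2 + 10 * k + 3)) := by
        have : (8 * k + 5) ^ 2 - 1 = 8 * (8 * k ^ 2 + 10 * k + 3) := by
          apply Nat.sub_eq_of_eq_add
          ring
        rw [this]; ring
      rw [h4] at h2
      have h5 : (8 * k + 5) * (8 * k ^ 2 + 10 * k + 3) = 2 * (32 * k ^ 3 + 60 * k ^ 2 + 37 * k + 7) + 1 := by ring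
      rw [h5] at h2
      omega
  · obtain ⟨-, -, -, hS⟩ := Cit.Nil.LO.ree_data h
    have : Fact (Nat.Prime 2) := ⟨Nat.prime_two⟩
    obtain ⟨S⟩ : Nonempty (Sylow 2 G) := inferInstance
    have h1 := S.card_eq_multiplicity
    rw [(hS S).1] at h1
    have h2 : (Nat.card G).factorization 2 = 3 := Nat.pow_right_injective le_rfl (by simpa using h1.symm)
    have h3 : 4 ≤ (Nat.card G).factorization 2 :=
      (Nat.prime_two.pow_dvd_iff_le_factorization Nat.card_pos.ne').1 (by norm_num; exact h16)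
    omega
  · rw [NotCT.Orders.j1 h] at h16
    norm_num at h16

end Cfsg.Agent.H478.ExistsFour
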