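import Mathlib
import Cfsg.Agent.H478.InvAltB
import Cfsg.Agent.H478.CycConj
import Cfsg.Agent.H478.AlmostSimple
import Cfsg.Agent.H478.WalterAll
import Cfsg.Agent.H478.KleinEven
import Cfsg.Agent.H478.BGroup
import Cfsg.Agent.S1644
import Cfsg.Agent.SmallSimple.SylowEight

/-!
# Involutions whose centralizer is `⟨J⟩ × T`, `T ≅ A₄` or `A₅`: the end
-/

set_option autoImplicit false

namespace Cfsg.Agent.H478.InvAlt

open Cfsg Subgroup
open Cfsg.Agent.H478.InvProd

variable {G : Type*} [Group G] {J : G} {T : Subgroup G} {m : ℕ}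

/-- The direct product decomposition as an isomorphism. -/
theorem nonempty_equiv [Finite G] (h : Hyp J T) {A : Type*} [Group A] (e : T ≃* A) :
    Nonempty (↥(centralizer ({J} : Set G)) ≃* Multiplicative (ZMod 2) × A) := by
  have hc : Nat.card (Multiplicative (ZMod 2)) = Nat.card (zpowers J) := by
    rw [Nat.card_zpowers, h.ord]
    simp
  let e0 : Multiplicative (ZMod 2) ≃* zpowers J := mulEquivOfCyclicCardEq hc
  let f : Multiplicative (ZMod 2) →* centralizer ({J} : Set G) :=
    (Subgroup.inclusion h.prod.1).comp e0.toMonoidHom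
  let g : A →* centralizer ({J} : Set G) := (Subgroup.inclusion h.prod.2.1).comp e.symm.toMonoidHom
  have hcomm : ∀ a b, Commute (f a) (g b) := by
    intro a b
    apply Subtype.ext
    exact h.prod.2.2.1 _ (e0 a).2 _ (e.symm b).2
  let F := f.noncommCoprod g hcomm
  have hFi : Function.Injective F := by
    rw [injective_iff_map_eq_one]
    rintro ⟨a, b⟩ hab
    have h1 : ((e0 a : zpowers J) : G) * ((e.symm b : T) : G) = 1 := congrArg Subtype.val hab
    have h2 : ((e0 a : zpowers J) : G) ∈ zpowers J ⊓ T := by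
      refine ⟨(e0 a).2, ?_⟩
      rw [eq_inv_of_mul_eq_one_left h1]
      exact T.inv_mem (e.symm b).2
    rw [h.prod.2.2.2.1, mem_bot] at h2
    have h3 : a = 1 := (MulEquiv.map_eq_one_iff e0).1 (Subtype.ext h2)
    rw [h2, one_mul] at h1
    have h4 : b = 1 := (MulEquiv.map_eq_one_iff e.symm).1 (Subtype.ext h1)
    rw [h3, h4]; rfl
  have hA : Finite A := Finite.of_equiv T e.toEquiv
  have hFb : Function.Bijective F := by
    rw [Nat.bijective_iff_injective_and_card]
    refine ⟨hFi, ?_⟩
    rw [Nat.card_prod, h.card_cent, hc, Nat.card_zpowers, h.ord, Nat.card_congr e.toEquiv]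
  exact ⟨(MulEquiv.ofBijective F hFb).symm⟩

namespace Small

variable [Finite G]

/-- All 2-elements are involutions or 1. -/
theorem sq_all (h : Small J T m) (hJ : IsTwoCentralInvolution J) {x : G} {k : ℕ} (hx : orderOf x = 2 ^ k) :
    x * x = 1 := by
  have hf2 : Fact (Nat.Prime 2) := ⟨Nat.prime_two⟩
  obtain ⟨-, P, hJP, hP⟩ := hJ
  have hz : IsPGroup 2 (zpowers x) := IsPGroup.of_card (n := k) (by rw [Nat.card_zpowers, hx])
  obtain ⟨Q, hQ⟩ := hz.exists_le_sylow
  obtain ⟨g, hg⟩ := MulAction.exists_smul_eq G Q P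
  have h3 : g * x * g⁻¹ ∈ (P : Subgroup G) := by
    rw [← hg, Sylow.coe_subgroup_smul]
    exact Subgroup.smul_mem_pointwise_smul x (MulAut.conj g) _ (hQ (mem_zpowers x))
  have h4 := h.sylow_sq P hP h3
  calc x * x = g⁻¹ * (g * x * g⁻¹ * (g * x * g⁻¹)) * g := by group
    _ = 1 := by rw [h4]; group

/-- The socle. -/
theorem exists_socle (h : Small J T m) (hJ : IsTwoCentralInvolution J)
    (h2 : ∀ N : Subgroup G, N.Normal → N.index ≠ 2) (hns : ¬ Group.IsSolvable G) :
    ∃ L : Subgroup G, L.Normal ∧ IsSimpleGroup L ∧ ¬ IsMulCommutative L ∧ centralizer (L : Set G) = ⊥ ∧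
      ∀ x : G, x * x = 1 → x ∈ L := by
  have h0 := h.no_solvable hJ h2 hns
  have hcl := Cfsg.Agent.H478.AlmostSimple.centralizer_layer (G := G) h0
  have hE : layer G ≠ ⊥ := by
    intro hE
    apply hns
    have htop : (⊤ : Subgroup G) = ⊥ := by
      rw [hE] at hcl
      have h3 : centralizer ((⊥ : Subgroup G) : Set G) = ⊤ := by
        rw [eq_top_iff]
        intro x _
        rw [mem_centralizer_iff]
        intro y hy
        rw [mem_bot.1 hy, one_mul, mul_one]
      rw [h3] at hcl
      exact hcl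
    have hsub : Subsingleton G := by
      constructor
      intro a b
      have ha : a ∈ (⊤ : Subgroup G) := mem_top a
      have hb : b ∈ (⊤ : Subgroup G) := mem_top b
      rw [htop, mem_bot] at ha hb
      rw [ha, hb]
    exact Group.isSolvable_of_comm (fun a b => Subsingleton.elim _ _)
  have hP2 : ∀ A B : Subgroup G, IsCyclic ↥A → IsCyclic ↥B → IsPGroup 2 ↥A → Nat.card ↥A = Nat.card ↥B →
      ∃ g : G, B = A.map (MulAut.conj g).toMonoidHom := by
    intro A B hA hB hAp hAB
    obtain ⟨a, ha⟩ := hA.exists_generator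
    obtain ⟨b, hb⟩ := hB.exists_generator
    have hAz : A = zpowers (a : G) := by
      ext x
      constructor
      · intro hx
        obtain ⟨k, hk⟩ := ha ⟨x, hx⟩
        exact ⟨k, by simpa using congrArg Subtype.val hk⟩
      · intro hx
        exact (zpowers_le.2 a.2) hx
    have hBz : B = zpowers (b : G) := by
      ext x
      constructor
      · intro hx
        obtain ⟨k, hk⟩ := hb ⟨x, hx⟩
        exact ⟨k, by simpa using congrArg Subtype.val hk⟩
      · intro hx
        exact (zpowers_le.2 b.2) hx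
    obtain ⟨k, hk⟩ := IsPGroup.iff_card.1 hAp
    have hoa : orderOf (a : G) = 2 ^ k := by rw [← Nat.card_zpowers, ← hAz, hk]
    have hob : orderOf (b : G) = 2 ^ k := by rw [← Nat.card_zpowers, ← hBz, ← hAB, hk]
    have ha2 := h.sq_all hJ hoa
    have hb2 := h.sq_all hJ hob
    have key : ∃ g : G, g * (a : G) * g⁻¹ = b := by
      by_cases hk0 : k = 0
      · rw [hk0, pow_zero, orderOf_eq_one_iff] at hoa hob
        rw [hoa, hob]
        exact ⟨1, by group⟩
      · have ha1 : (a : G) ≠ 1 := by
          intro h3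
          rw [h3, orderOf_one] at hoa
          have : 2 ^ 1 ≤ 2 ^ k := Nat.pow_le_pow_right (by norm_num) (by omega)
          omega
        have hb1 : (b : G) ≠ 1 := by
          intro h3
          rw [h3, orderOf_one] at hob
          have : 2 ^ 1 ≤ 2 ^ k := Nat.pow_le_pow_right (by norm_num) (by omega)
          omega
        obtain ⟨c, hc⟩ := h.con_all hJ h2 ha2 ha1
        obtain ⟨d, hd⟩ := h.con_all hJ h2 hb2 hb1
        refine ⟨d * c⁻¹, ?_⟩
        rw [← hc, ← hd]; group
    obtain ⟨g, hg⟩ := key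
    refine ⟨g, ?_⟩
    rw [hBz, hAz, MonoidHom.map_zpowers, ← hg]
    rfl
  have hq := Cfsg.Agent.H478.CycConj.isQuasisimple_layer hP2 hE
  have hLn : (layer G).Normal := Cfsg.Agent.SignalizersComponents.LayerBasic.layer_normal G
  have hzc : center ↥(layer G) = ⊥ := by
    have hn : ((center ↥(layer G)).map (layer G).subtype).Normal :=
      ConjAct.normal_of_characteristic_of_normal
    have h3 := h0 _ hn (by
      apply Group.isSolvable_of_comm
      rintro ⟨_, ⟨x, hx, rfl⟩⟩ ⟨_, ⟨y, hy, rfl⟩⟩
      apply Subtype.ext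
      have h4 : ((x * y : ↥(layer G)) : G) = ((y * x : ↥(layer G)) : G) :=
        congrArg Subtype.val (mem_center_iff.1 hy x)
      exact h4)
    rwa [Subgroup.map_eq_bot_iff_of_injective _ (layer G).subtype_injective] at h3
  have hqs := Cfsg.Agent.H478.CycConj.simple_quotient hq
  let eq : ↥(layer G) ⧸ center ↥(layer G) ≃* ↥(layer G) :=
    (QuotientGroup.quotientMulEquivOfEq hzc).trans QuotientGroup.quotientBot
  have hsim : IsSimpleGroup ↥(layer G) := by
    have := hqs.1
    exact eq.symm.isSimpleGroup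
  have hna : ¬ IsMulCommutative ↥(layer G) := by
    intro hc
    apply hqs.2
    refine ⟨⟨fun a b => eq.injective ?_⟩⟩
    rw [map_mul, map_mul, hc.1.comm]
  refine ⟨layer G, hLn, hsim, hna, hcl, ?_⟩
  -- involutions
  obtain ⟨x, hxc, i, hi⟩ := Cfsg.Agent.H478.CycConj.exists_two_elt hq
  have hx2 : (x : G) * x = 1 := h.sq_all hJ (x := (x : G)) (k := i) (by rw [Subgroup.orderOf_coe, hi])
  have hx1 : (x : G) ≠ 1 := by
    intro h3
    apply hxc
    have : x = 1 := Subtype.ext h3
    rw [this]; exact one_mem _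
  intro y hy
  by_cases hy1 : y = 1
  · rw [hy1]; exact one_mem _
  obtain ⟨c, hc⟩ := h.con_all hJ h2 hx2 hx1
  obtain ⟨d, hd⟩ := h.con_all hJ h2 hy hy1
  have h3 : y = (d * c⁻¹) * x * (d * c⁻¹)⁻¹ := by rw [← hc, ← hd]; group
  rw [h3]
  exact hLn.conj_mem _ x.2 _

/-- **The main theorem.** -/
theorem main (h : Small J T m) (hJ : IsTwoCentralInvolution J)
    (h2 : ∀ N : Subgroup G, N.Normal → N.index ≠ 2) (hns : ¬ Group.IsSolvable G) :
    (m = 4 ∧ ∃ (F : Type) (_ : Field F) (_ : Fintype F), Fintype.card F = 8 ∧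
        Nonempty (G ≃* MulAut (Matrix.ProjectiveSpecialLinearGroup (Fin 2) F))) ∨
      (m = 5 ∧ Cfsg.Spor.IsoJ1 G) := by
  have hf2 : Fact (Nat.Prime 2) := ⟨Nat.prime_two⟩
  obtain ⟨L, hLn, hLs, hna, hCL, hinv⟩ := h.exists_socle hJ h2 hns
  have hJL : J ∈ L := hinv J h.toHyp.sq
  obtain ⟨hJ2, P, hJP, hP⟩ := id hJ
  have hPL : (P : Subgroup G) ≤ L := fun x hx => hinv x (h.sylow_sq P hP hx)
  have hPc := h.sylow_card P hP
  have h8L : 8 ∣ Nat.card L := by
    rw [← hPc]
    exact Subgroup.card_dvd_of_le hPL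
  have h16 : ¬ 16 ∣ Nat.card L := by
    intro h3
    have h4 : 16 ∣ Nat.card G := h3.trans (Subgroup.card_subgroup_dvd_card L)
    have h5 := (P : Subgroup G).card_mul_index
    rw [hPc] at h5
    apply P.not_dvd_index
    obtain ⟨c, hc⟩ := h4
    rw [hc] at h5
    exact ⟨c, by omega⟩
  have hSL : ∀ S : Sylow 2 L, Nat.card (S : Subgroup L) = 8 := by
    intro S
    exact Cfsg.Agent.SmallSimple.SylowEight.card_sylow_eight h8L h16 S
  have hSsq : ∀ (S : Sylow 2 L), ∀ a ∈ (S : Subgroup L), a * a = 1 := by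
    intro S a ha
    obtain ⟨k, hk⟩ := (IsPGroup.iff_orderOf.1 S.isPGroup') ⟨a, ha⟩
    rw [← Subgroup.orderOf_coe] at hk
    have h3 := h.sq_all hJ (x := (a : G)) (k := k) (by rw [Subgroup.orderOf_coe]; exact hk)
    exact Subtype.ext h3
  obtain ⟨S⟩ : Nonempty (Sylow 2 L) := inferInstance
  have hSc : ∀ a ∈ (S : Subgroup L), ∀ b ∈ (S : Subgroup L), a * b = b * a := by
    intro a ha b hb
    have h3 := hSsq S _ (mul_mem ha hb)
    calc a * b = (a * b)⁻¹ := (inv_eq_of_mul_eq_one_left h3).symm
      _ = b⁻¹ * a⁻¹ := mul_inv_rev _ _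
      _ = b * a := by rw [inv_eq_of_mul_eq_one_left (hSsq S a ha), inv_eq_of_mul_eq_one_left (hSsq S b hb)]
  have hW := Cfsg.Agent.Walter.Main.wType_of_step Cfsg.Agent.Walter.StepAll.step L inferInstance hna S hSc
  -- for `m = 5` the centralizer of `J` is in `L`
  have hm5L : m = 5 → centralizer ({J} : Set G) ≤ L := by
    intro hm5 x hx
    have hTL : T ≤ L := by
      subst hm5
      obtain ⟨e⟩ := h.iso
      have hTs : IsSimpleGroup T := by
        have : IsSimpleGroup (alternatingGroup (Fin 5)) := alternatingGroup.isSimpleGroup (by simp)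
        exact e.isSimpleGroup
      have hn : (L.subgroupOf T).Normal := inferInstance
      rcases hn.eq_bot_or_eq_top with h3 | h3
      · exfalso
        have hle : (P : Subgroup G) ≤ centralizer ({J} : Set G) := fun y hy =>
          mem_centralizer_singleton_iff.2 (hP y hy)
        have hVc := card_eq h.toHyp hJP hle
        have h4 : (P : Subgroup G) ⊓ T = ⊥ := by
          rw [Subgroup.subgroupOf_eq_bot, disjoint_iff] at h3
          rw [eq_bot_iff, ← h3]
          exact inf_le_inf_right T hPL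
        rw [h4, Subgroup.card_bot, hPc] at hVc
        omega
      · rwa [Subgroup.subgroupOf_eq_top] at h3
    obtain ⟨t, ht, rfl | rfl⟩ := h.toHyp.exists_eq hx
    · exact hTL ht
    · exact mul_mem hJL (hTL ht)
  rcases hW with ⟨F, i1, i2, n, hn, hF, ⟨e⟩⟩ | ⟨F, i1, i2, hF, -, ⟨e⟩⟩ | ⟨-, F, i1, i2, hF8, hF5, hc⟩
  · -- `L ≅ PSL(2, 8)`
    have h3 := Cfsg.Agent.Walter.TypeSylow.card_sylow_even hF e S
    rw [hSL S] at h3
    have hn3 : n = 3 := by
      have : 2 ^ n = 2 ^ 3 := by rw [← h3]; norm_num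
      exact Nat.pow_right_injective (le_refl 2) this
    subst hn3
    have hLc : Nat.card L = 504 := by
      have h5 := Cfsg.Agent.ClassicalGeometry.PSL2Basic.card_PSL2_even F (by rw [hF]; decide)
      rw [hF] at h5
      exact (Nat.card_congr e.toEquiv).trans h5
    rcases h.card_T with ⟨hm4, hTc⟩ | ⟨hm5, hTc⟩
    · left
      refine ⟨hm4, F, i1, i2, by rw [hF]; norm_num, ?_⟩
      have hchar : CharP F 2 := charP_of_card_eq_prime_pow hF
      let e' : L ≃* Matrix.SpecialLinearGroup (Fin 2) F := e.trans Cfsg.Agent.H478.KleinEven.pslEquiv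
      have hinvc : Nat.card {x : G // x * x = 1 ∧ x ≠ 1} = 63 := by
        have hT1 : ∀ v : F × F, Cfsg.Agent.H478.KleinEven.T v = 1 ↔ v = 0 := by
          intro v
          rw [← Cfsg.Agent.H478.KleinEven.T_zero]
          exact Cfsg.Agent.H478.KleinEven.T_injective.eq_iff
        let f : {v : F × F // v ≠ 0} → {x : G // x * x = 1 ∧ x ≠ 1} := fun v =>
          ⟨((e'.symm (Cfsg.Agent.H478.KleinEven.T v.1) : L) : G), by
            constructor
            · rw [← Subgroup.coe_mul, ← map_mul, Cfsg.Agent.H478.KleinEven.T_sq, map_one]; rfl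
            · intro h4
              apply v.2
              rw [← hT1]
              have h5 : e'.symm (Cfsg.Agent.H478.KleinEven.T v.1) = 1 := Subtype.ext h4
              exact (MulEquiv.map_eq_one_iff e'.symm).1 h5⟩
        have hfb : Function.Bijective f := by
          constructor
          · intro v w hvw
            have h4 := congrArg Subtype.val hvw
            exact Subtype.ext (Cfsg.Agent.H478.KleinEven.T_injective (e'.symm.injective (Subtype.ext h4)))
          · rintro ⟨x, hx, hx1⟩
            have hxL := hinv x hx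
            obtain ⟨v, hv⟩ := Cfsg.Agent.H478.KleinEven.exists_T (A := e' ⟨x, hxL⟩) (by
              rw [← map_mul]
              have : (⟨x, hxL⟩ : L) * ⟨x, hxL⟩ = 1 := Subtype.ext hx
              rw [this, map_one])
            refine ⟨⟨v, ?_⟩, ?_⟩
            · intro h4
              rw [h4, Cfsg.Agent.H478.KleinEven.T_zero] at hv
              exact hx1 (congrArg Subtype.val ((MulEquiv.map_eq_one_iff e').1 hv.symm))
            · apply Subtype.ext
              show ((e'.symm (Cfsg.Agent.H478.KleinEven.T v) : L) : G) = x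
              rw [hv, MulEquiv.symm_apply_apply]
        rw [← Nat.card_congr (Equiv.ofBijective f hfb)]
        classical
        rw [Nat.card_eq_fintype_card, Fintype.card_subtype_compl, Fintype.card_subtype_eq, Fintype.card_prod, hF]
        norm_num
      have hGc : Nat.card G = 1512 := by
        rw [h.card_G hJ h2, hinvc, h.toHyp.card_cent, hTc]
      let φ : G →* MulAut L := MulAut.conjNormal
      have hφ : Function.Injective φ := by
        rw [injective_iff_map_eq_one]
        intro g hg
        have h4 : g ∈ centralizer (L : Set G) := by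
          rw [mem_centralizer_iff]
          intro x hx
          have h5 := congrArg (fun t : MulAut L => ((t ⟨x, hx⟩ : L) : G)) hg
          have h6 : g * x * g⁻¹ = x := by simpa [φ] using h5
          rw [mul_inv_eq_iff_eq_mul] at h6
          exact h6.symm
        rwa [hCL, mem_bot] at h4
      have hAc : Nat.card (MulAut L) = 1512 := by
        have h4 := Cfsg.Agent.S0813.result 2 3 (by omega) hF 2 le_rfl (fun _ => by norm_num)
        rw [if_pos rfl, one_mul, Cfsg.Agent.ClassicalGeometry.PSL2Basic.card_PGL2, hF] at h4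
        rw [Nat.card_congr (MulAut.congr e).toEquiv, h4]
        norm_num
      have hAfin : Finite (MulAut L) := Nat.finite_of_card_ne_zero (by rw [hAc]; norm_num)
      have hφb : Function.Bijective φ := by
        rw [Nat.bijective_iff_injective_and_card]
        exact ⟨hφ, by rw [hGc, hAc]⟩
      exact ⟨(MulEquiv.ofBijective φ hφb).trans (MulAut.congr e)⟩
    · exfalso
      have h4 := Subgroup.card_dvd_of_le (hm5L hm5)
      rw [h.toHyp.card_cent, hTc, hLc] at h4
      omega
  · exfalso
    have h3 := Cfsg.Agent.Walter.TypeSylow.card_sylow_odd hF e S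
    rw [hSL S] at h3
    omega
  · -- Janko–Ree type
    have hodd : Odd (Fintype.card F) := by rw [Nat.odd_iff]; omega
    obtain ⟨eJ⟩ := hc ⟨J, hJL⟩ (by rw [← h.toHyp.ord, Subgroup.orderOf_mk])
    have h3 := Cfsg.Agent.ClassicalGeometry.PSL2Basic.card_PSL2_odd F hodd
    have hCc : Nat.card (centralizer ({(⟨J, hJL⟩ : L)} : Set L)) = Fintype.card F * (Fintype.card F ^ 2 - 1) := by
      rw [Nat.card_congr eJ.toEquiv, Nat.card_prod, ← h3, mul_comm]
      simp
    have h120 : 120 ≤ Fintype.card F * (Fintype.card F ^ 2 - 1) := by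
      have h4 : 5 ^ 2 ≤ Fintype.card F ^ 2 := Nat.pow_le_pow_left hF5 2
      calc 120 = 5 * 24 := by norm_num
        _ ≤ Fintype.card F * (Fintype.card F ^ 2 - 1) := Nat.mul_le_mul hF5 (by omega)
    have hmap : (centralizer ({(⟨J, hJL⟩ : L)} : Set L)).map L.subtype ≤ centralizer ({J} : Set G) := by
      rintro _ ⟨x, hx, rfl⟩
      rw [SetLike.mem_coe, mem_centralizer_singleton_iff] at hx
      rw [mem_centralizer_singleton_iff]
      exact congrArg Subtype.val hx
    have hmc : Nat.card ((centralizer ({(⟨J, hJL⟩ : L)} : Set L)).map L.subtype : Subgroup G) =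
        Fintype.card F * (Fintype.card F ^ 2 - 1) := by
      rw [← Nat.card_congr (Subgroup.equivMapOfInjective _ L.subtype L.subtype_injective).toEquiv, hCc]
    have hle := Subgroup.card_le_of_le hmap
    rw [hmc, h.toHyp.card_cent] at hle
    rcases h.card_T with ⟨hm4, hTc⟩ | ⟨hm5, hTc⟩
    · rw [hTc] at hle; omega
    right
    refine ⟨hm5, ?_⟩
    have hCJL := hm5L hm5
    -- `G = L`
    have htop : L = ⊤ := by
      rw [eq_top_iff]
      intro g _
      have hgJ : g * J * g⁻¹ ∈ L := hLn.conj_mem J hJL g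
      have h5 := Cfsg.Agent.SmallSimple.SylowEight.isConj_of_card_sylow_eight hna h8L h16
        (⟨J, hJL⟩ : L) ⟨g * J * g⁻¹, hgJ⟩ (by rw [← h.toHyp.ord, Subgroup.orderOf_mk]) (by
          rw [Subgroup.orderOf_mk]
          have : g * J * g⁻¹ = MulAut.conj g J := rfl
          rw [this, MulEquiv.orderOf_eq]
          exact h.toHyp.ord)
      obtain ⟨l, hl⟩ := isConj_iff.1 h5
      have h6 : (l : G) * J * (l : G)⁻¹ = g * J * g⁻¹ := congrArg Subtype.val hl
      have h7 : (l : G)⁻¹ * g ∈ centralizer ({J} : Set G) := by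
        rw [mem_centralizer_singleton_iff]
        calc (l : G)⁻¹ * g * J = (l : G)⁻¹ * (g * J * g⁻¹) * g := by group
          _ = (l : G)⁻¹ * ((l : G) * J * (l : G)⁻¹) * g := by rw [h6]
          _ = J * ((l : G)⁻¹ * g) := by group
      have h8 : g = l * ((l : G)⁻¹ * g) := by group
      rw [h8]
      exact mul_mem l.2 (hCJL h7)
    have hGs : IsSimpleGroup G := by
      rw [htop] at hLs
      exact (Subgroup.topEquiv (G := G)).symm.isSimpleGroup
    subst hm5
    obtain ⟨e⟩ := h.iso
    obtain ⟨E⟩ := nonempty_equiv h.toHyp e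
    refine Cfsg.Agent.S1644.result P ⟨⟨fun a b => Subtype.ext ?_⟩⟩ hPc J h.toHyp.ord E
    have h9 := h.sylow_sq P hP (mul_mem a.2 b.2)
    show (a : G) * b = b * a
    calc (a : G) * b = ((a : G) * b)⁻¹ := (inv_eq_of_mul_eq_one_left h9).symm
      _ = (b : G)⁻¹ * (a : G)⁻¹ := mul_inv_rev _ _
      _ = b * a := by
        rw [inv_eq_of_mul_eq_one_left (h.sylow_sq P hP a.2), inv_eq_of_mul_eq_one_left (h.sylow_sq P hP b.2)]

end Small

end Cfsg.Agent.H478.InvAlt
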