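import Mathlib
import Cfsg.Prelude.Def_TwoFusion
import Cfsg.Prelude.Def_SporadicB
import Cfsg.Agent.Transfer.ThompsonTransfer
import Cfsg.Agent.H478.AltInv

/-!
# Involutions whose centralizer is `⟨J⟩ × T`
-/

set_option autoImplicit false

namespace Cfsg.Agent.H478.InvProd

open Cfsg Subgroup

/-- `J` is an involution with centralizer `⟨J⟩ × T`. -/
structure Hyp {G : Type*} [Group G] (J : G) (T : Subgroup G) : Prop where
  ord : orderOf J = 2
  prod : IsInternalDirectProduct (zpowers J) T (centralizer ({J} : Set G))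

namespace Hyp

variable {G : Type*} [Group G] {J : G} {T : Subgroup G}

theorem sq (h : Hyp J T) : J * J = 1 := by
  rw [← pow_two, ← h.ord, pow_orderOf_eq_one]

theorem ne_one (h : Hyp J T) : J ≠ 1 := by
  intro h1
  have := h.ord
  rw [h1, orderOf_one] at this
  omega

theorem inv (h : Hyp J T) : J⁻¹ = J := inv_eq_of_mul_eq_one_left h.sq

theorem mem_zpowers {x : G} (h : Hyp J T) : x ∈ zpowers J ↔ x = 1 ∨ x = J := by
  rw [mem_zpowers_iff]
  constructor
  · rintro ⟨k, rfl⟩
    rcases Int.even_or_odd k with ⟨m, rfl⟩ | ⟨m, rfl⟩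
    · left
      rw [zpow_add, ← mul_zpow' h.sq]
    · right
      rw [zpow_add, zpow_one, zpow_mul, zpow_ofNat, pow_two, h.sq, one_zpow, one_mul]
  · rintro (rfl | rfl)
    · exact ⟨0, zpow_zero _⟩
    · exact ⟨1, zpow_one _⟩
where
  mul_zpow' {J : G} (h : J * J = 1) {m : ℤ} : J ^ m * J ^ m = 1 := by
    rw [← zpow_add, ← two_mul, zpow_mul, zpow_ofNat, pow_two, h, one_zpow]

theorem comm (h : Hyp J T) {t : G} (ht : t ∈ T) : J * t = t * J :=
  h.prod.2.2.1 J (Subgroup.mem_zpowers J) t ht

theorem mem_cent (h : Hyp J T) {t : G} (ht : t ∈ T) : t ∈ centralizer ({J} : Set G) := h.prod.2.1 ht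

theorem J_mem_cent (h : Hyp J T) : J ∈ centralizer ({J} : Set G) := h.prod.1 (Subgroup.mem_zpowers J)

theorem not_mem (h : Hyp J T) : J ∉ T := by
  intro hJ
  have h1 : J ∈ zpowers J ⊓ T := ⟨Subgroup.mem_zpowers J, hJ⟩
  rw [h.prod.2.2.2.1, mem_bot] at h1
  exact h.ne_one h1

theorem exists_eq (h : Hyp J T) {x : G} (hx : x ∈ centralizer ({J} : Set G)) :
    ∃ t ∈ T, x = t ∨ x = J * t := by
  have h1 : ∀ y ∈ zpowers J ⊔ T, ∃ t ∈ T, y = t ∨ y = J * t := by
    let M : Subgroup G :=
      { carrier := {y | ∃ t ∈ T, y = t ∨ y = J * t}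
        one_mem' := ⟨1, one_mem _, Or.inl rfl⟩
        mul_mem' := by
          rintro a b ⟨s, hs, ha⟩ ⟨t, ht, hb⟩
          refine ⟨s * t, mul_mem hs ht, ?_⟩
          have hc := h.comm hs
          rcases ha with rfl | rfl <;> rcases hb with rfl | rfl
          · exact Or.inl rfl
          · right
            rw [← mul_assoc, ← hc, mul_assoc]
          · right
            rw [mul_assoc]
          · left
            rw [hc, mul_assoc, ← mul_assoc J J, h.sq, one_mul]
        inv_mem' := by
          rintro a ⟨s, hs, ha⟩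
          refine ⟨s⁻¹, inv_mem hs, ?_⟩
          rcases ha with rfl | rfl
          · exact Or.inl rfl
          · right
            rw [mul_inv_rev, h.inv, h.comm (inv_mem hs)] }
    have hle : zpowers J ⊔ T ≤ M := by
      apply sup_le
      · rw [zpowers_le]
        exact ⟨1, one_mem _, Or.inr (mul_one _).symm⟩
      · intro t ht
        exact ⟨t, ht, Or.inl rfl⟩
    intro y hy
    exact hle hy
  apply h1
  rw [h.prod.2.2.2.2]
  exact hx

/-- `T` is normal in `C(J)`. -/
theorem conj_mem (h : Hyp J T) {x t : G} (hx : x ∈ centralizer ({J} : Set G)) (ht : t ∈ T) :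
    x * t * x⁻¹ ∈ T := by
  obtain ⟨s, hs, rfl | rfl⟩ := h.exists_eq hx
  · exact mul_mem (mul_mem hs ht) (inv_mem hs)
  · have : J * s * t * (J * s)⁻¹ = s * t * s⁻¹ := by
      rw [mul_inv_rev, h.inv, mul_assoc J s t, h.comm (mul_mem hs ht)]
      rw [h.comm (inv_mem hs) |>.symm]
      calc s * t * J * (J * s⁻¹) = s * t * (J * J) * s⁻¹ := by group
        _ = s * t * s⁻¹ := by rw [h.sq, mul_one]
    rw [this]
    exact mul_mem (mul_mem hs ht) (inv_mem hs)

/-- The commutator subgroup of `C(J)` is in `T`. -/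
theorem commutator_le (h : Hyp J T) : ⁅centralizer ({J} : Set G), centralizer ({J} : Set G)⁆ ≤ T := by
  rw [Subgroup.commutator_le]
  intro x hx y hy
  rw [commutatorElement_def]
  have hxt : ∃ s ∈ T, ∀ z ∈ centralizer ({J} : Set G), x * z * x⁻¹ = s * z * s⁻¹ := by
    obtain ⟨s, hs, rfl | rfl⟩ := h.exists_eq hx
    · exact ⟨x, hs, fun _ _ => rfl⟩
    · refine ⟨s, hs, fun z hz => ?_⟩
      have h1 : s * z * s⁻¹ ∈ centralizer ({J} : Set G) :=
        mul_mem (mul_mem (h.mem_cent hs) hz) (inv_mem (h.mem_cent hs))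
      have h2 := mem_centralizer_singleton_iff.1 h1
      calc J * s * z * (J * s)⁻¹ = J * (s * z * s⁻¹) * J⁻¹ := by group
        _ = s * z * s⁻¹ * J * J⁻¹ := by rw [h2]
        _ = s * z * s⁻¹ := by group
  obtain ⟨s, hs, hsz⟩ := hxt
  rw [hsz y hy]
  have h2 : s * y * s⁻¹ * y⁻¹ = s * (y * s⁻¹ * y⁻¹) := by group
  rw [h2]
  exact mul_mem hs (h.conj_mem hy (inv_mem hs))

theorem card_cent [Finite G] (h : Hyp J T) :
    Nat.card (centralizer ({J} : Set G)) = 2 * Nat.card T := by
  have hb : Function.Bijective (fun p : Bool × T =>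
      (⟨(if p.1 then J * p.2 else p.2 : G), by
        split_ifs
        · exact mul_mem h.J_mem_cent (h.mem_cent p.2.2)
        · exact h.mem_cent p.2.2⟩ : centralizer ({J} : Set G))) := by
    constructor
    · rintro ⟨a, s⟩ ⟨b, t⟩ hab
      have h1 := congrArg Subtype.val hab
      simp only at h1
      have key : ∀ s t : T, (J * s : G) ≠ t := by
        intro s t h2
        apply h.not_mem
        have : J = t * (s : G)⁻¹ := by rw [← h2]; group
        rw [this]
        exact mul_mem t.2 (inv_mem s.2)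
      cases a <;> cases b
      · simp at h1; rw [h1]
      · simp at h1; exact absurd h1.symm (key t s)
      · simp at h1; exact absurd h1 (key s t)
      · simp at h1; rw [h1]
    · rintro ⟨x, hx⟩
      obtain ⟨t, ht, rfl | rfl⟩ := h.exists_eq hx
      · exact ⟨(false, ⟨x, ht⟩), by simp⟩
      · exact ⟨(true, ⟨t, ht⟩), by simp⟩
  rw [← Nat.card_congr (Equiv.ofBijective _ hb), Nat.card_prod]
  simp

theorem index_T [Finite G] (h : Hyp J T) : T.index = 2 * (centralizer ({J} : Set G)).index := by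
  have h1 := T.card_mul_index
  have h2 := (centralizer ({J} : Set G)).card_mul_index
  rw [h.card_cent] at h2
  have h3 : 0 < Nat.card T := Nat.card_pos
  apply Nat.eq_of_mul_eq_mul_left h3
  rw [h1, ← h2]
  ring

/-- The index of `C(J)` is odd if `J` is 2-central. -/
theorem odd_index [Finite G] (h2 : IsTwoCentralInvolution J) : Odd (centralizer ({J} : Set G)).index := by
  obtain ⟨-, P, hJP, hP⟩ := h2
  have hle : (P : Subgroup G) ≤ centralizer ({J} : Set G) := by
    intro x hx
    rw [mem_centralizer_singleton_iff]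
    exact hP x hx
  have h3 : (centralizer ({J} : Set G)).index ∣ (P : Subgroup G).index := index_dvd_of_le hle
  have : Fact (Nat.Prime 2) := ⟨Nat.prime_two⟩
  have h4 : ¬ 2 ∣ (P : Subgroup G).index := P.not_dvd_index
  rw [← Nat.not_even_iff_odd, even_iff_two_dvd]
  exact fun h5 => h4 (h5.trans h3)

/-- Thompson transfer: some conjugate of `J` is in `T`. -/
theorem exists_conj_mem [Finite G] (h : Hyp J T) (hJ : IsTwoCentralInvolution J)
    (h2 : ∀ N : Subgroup G, N.Normal → N.index ≠ 2) : ∃ g : G, g * J * g⁻¹ ∈ T := by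
  by_contra hcon
  push Not at hcon
  obtain ⟨f, hf⟩ := Cfsg.Agent.Transfer.ThompsonTransfer.exists_hom_eq_neg_one T h.index_T
    (odd_index hJ) J (by rw [pow_two]; exact h.sq) hcon
  obtain ⟨M, hM, hMi, -⟩ := Cfsg.Agent.Transfer.ThompsonTransfer.exists_normal_index_two f J hf
  exact h2 M hM hMi

/-- No conjugate of `J` is in `T` if `T ≅ A_m`, `m ≥ 6`. -/
theorem false_of_six_le [Finite G] (h : Hyp J T) {m : ℕ} (hm : 6 ≤ m)
    (e : T ≃* alternatingGroup (Fin m)) {g : G} (hg : g * J * g⁻¹ ∈ T) : False := by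
  set z : G := g * J * g⁻¹ with hz
  let f : alternatingGroup (Fin m) →* G := T.subtype.comp e.symm.toMonoidHom
  set z' : alternatingGroup (Fin m) := e ⟨z, hg⟩ with hz'
  have hfz : f z' = z := by
    show ((e.symm (e ⟨z, hg⟩) : T) : G) = z
    rw [MulEquiv.symm_apply_apply]
  have hzz : z' * z' = 1 := by
    rw [hz', ← map_mul]
    have : (⟨z, hg⟩ : T) * ⟨z, hg⟩ = 1 := Subtype.ext (by
      show z * z = 1
      rw [hz]
      calc g * J * g⁻¹ * (g * J * g⁻¹) = g * (J * J) * g⁻¹ := by group
        _ = 1 := by rw [h.sq]; group)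
    rw [this, map_one]
  have h1 := Cfsg.Agent.H478.AltInv.mem_commutator_alt (by simpa using hm) z' hzz
  have h3 : (centralizer ({z'} : Set (alternatingGroup (Fin m)))).map f ≤ centralizer ({z} : Set G) := by
    rintro _ ⟨w, hw, rfl⟩
    rw [SetLike.mem_coe, mem_centralizer_singleton_iff] at hw
    rw [mem_centralizer_singleton_iff, ← hfz, ← map_mul, hw, map_mul]
  have h4 : z ∈ ⁅centralizer ({z} : Set G), centralizer ({z} : Set G)⁆ := by
    apply Subgroup.commutator_mono h3 h3
    rw [← map_commutator]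
    exact ⟨z', h1, hfz⟩
  have h5 : (centralizer ({z} : Set G)).map (MulAut.conj g⁻¹).toMonoidHom ≤ centralizer ({J} : Set G) := by
    rintro _ ⟨w, hw, rfl⟩
    rw [SetLike.mem_coe, mem_centralizer_singleton_iff] at hw
    rw [mem_centralizer_singleton_iff]
    show (MulAut.conj g⁻¹) w * J = J * (MulAut.conj g⁻¹) w
    have h6 : J = (MulAut.conj g⁻¹) z := by
      rw [MulAut.conj_apply, hz]; group
    rw [h6, ← map_mul, ← map_mul, hw]
  have h6 : J ∈ ⁅centralizer ({J} : Set G), centralizer ({J} : Set G)⁆ := by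
    apply Subgroup.commutator_mono h5 h5
    rw [← map_commutator]
    exact ⟨z, h4, by show (MulAut.conj g⁻¹) z = J; rw [MulAut.conj_apply, hz]; group⟩
  exact h.not_mem (h.commutator_le h6)

end Hyp

end Cfsg.Agent.H478.InvProd
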