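import Cfsg.Agent.H54.Kill.Period
import Cfsg.Agent.H545.PQ.Monster
import Cfsg.Agent.MonsterX.USide
import Cfsg.Agent.Leech.FrameAux
import Cfsg.Agent.H54.Kill.Base

/-!
# Kill row for the Monster (helper478)

`S4 ≤ C(23)`: the triality element of order 3 and the central involution commute with `x ↦ x + 1`.
-/

set_option autoImplicit false

namespace Cfsg.Agent.H478.KillM

open Subgroup Cfsg Cfsg.Agent.H480

theorem kill_abs {L : Type*} [Group L] (G : Subgroup L) [Finite ↥G] (hcard : ¬ 23 * 23 ∣ Nat.card ↥G) {a t z : L}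
    (ha : a ∈ G) (ht : t ∈ G) (hz : z ∈ G) (h23 : 23 ∣ orderOf a) (ht3 : t * t * t = 1) (hat : a * t = t * a)
    (haz : a * z = z * a) (hz2 : z * z = 1) (hzu : (t * z * t⁻¹) * z = z * (t * z * t⁻¹)) (hne : t * z * t⁻¹ ≠ z) :
    Kill ↥G := by
  let A : ↥G := ⟨a, ha⟩
  let D : ↥G := ⟨t, ht⟩
  let Z : ↥G := ⟨z, hz⟩
  obtain ⟨m, hm⟩ := h23
  have hAo : orderOf A = 23 * m := by rw [← Subgroup.orderOf_coe]; exact hm
  have hm0 : m ≠ 0 := by
    rintro rfl
    rw [mul_zero] at hAo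
    exact (orderOf_eq_zero_iff.1 hAo) (isOfFinOrder_of_finite A)
  have hzo : orderOf (A ^ m) = 23 := by
    rw [orderOf_pow, hAo, Nat.gcd_eq_right (Dvd.intro_left 23 rfl), Nat.mul_div_cancel _ (Nat.pos_of_ne_zero hm0)]
  have hAD : Commute A D := Subtype.ext hat
  have hAZ : Commute A Z := Subtype.ext haz
  have hD3 : D * D * D = 1 := Subtype.ext ht3
  have hZ2 : Z * Z = 1 := Subtype.ext hz2
  have hZi : Z⁻¹ = Z := inv_eq_of_mul_eq_one_left hZ2
  have hU : (D * Z * D⁻¹) * Z = Z * (D * Z * D⁻¹) := Subtype.ext hzu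
  have hN : D * Z * D⁻¹ ≠ Z := fun h => hne (congrArg Subtype.val h)
  have hDo : orderOf D ∣ 3 := orderOf_dvd_of_pow_eq_one (by rw [pow_succ, pow_two]; exact hD3)
  have hc : Z * D * Z⁻¹ * D⁻¹ = Z * (D * Z * D⁻¹) := by rw [hZi]; simp only [mul_assoc]
  have hU2 : (D * Z * D⁻¹) * (D * Z * D⁻¹) = 1 := by
    calc (D * Z * D⁻¹) * (D * Z * D⁻¹) = D * (Z * Z) * D⁻¹ := by group
      _ = 1 := by rw [hZ2]; group
  refine Cfsg.Agent.H54.Kill.kill_of_sylow (r := 23) (z := A ^ m) (d := D) (q := Z) (by norm_num) hcard hzo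
    (Nat.Coprime.coprime_dvd_left hDo (by norm_num)) (hAD.pow_left m).eq (hAZ.pow_left m).eq ?_ ?_
  · rw [hc]
    have h2 : orderOf (Z * (D * Z * D⁻¹)) ∣ 2 := orderOf_dvd_of_pow_eq_one (by
      rw [pow_two]
      calc Z * (D * Z * D⁻¹) * (Z * (D * Z * D⁻¹)) = Z * ((D * Z * D⁻¹) * Z) * (D * Z * D⁻¹) := by
            simp only [mul_assoc]
        _ = (Z * Z) * ((D * Z * D⁻¹) * (D * Z * D⁻¹)) := by rw [hU]; simp only [mul_assoc]
        _ = 1 := by rw [hZ2, hU2, mul_one])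
    exact Nat.Coprime.coprime_dvd_left h2 (Nat.Coprime.coprime_dvd_right hDo (by norm_num))
  · rw [hc]
    intro h
    have h1 : D * (D * Z * D⁻¹) * D⁻¹ = Z := by
      have h2 : D * (Z * (D * Z * D⁻¹)) * D⁻¹ = Z * (D * Z * D⁻¹) := by rw [← h]; group
      have h3 : D * (Z * (D * Z * D⁻¹)) * D⁻¹ = (D * Z * D⁻¹) * (D * (D * Z * D⁻¹) * D⁻¹) := by group
      rw [h3, ← hU] at h2
      exact mul_left_cancel h2
    apply hN
    have h4 : D⁻¹ = D * D := by
      rw [inv_eq_iff_mul_eq_one]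
      rw [← mul_assoc]
      exact hD3
    calc D * Z * D⁻¹ = D * (D * (D * Z * D⁻¹) * D⁻¹) * D⁻¹ := by rw [h1]
      _ = (D * D * D) * Z * (D * D * D)⁻¹ := by group
      _ = Z := by rw [hD3]; group

section Model

open Cfsg.Agent.MonsterX.Space Cfsg.Agent.MonsterX.Conc Cfsg.Agent.MonsterX.Model Cfsg.Agent.MonsterX.InstData
open Cfsg.Agent.MonsterX.USide Cfsg.Agent.MonsterX.CoGens Cfsg.Agent.Leech.Basic Cfsg.Agent.MonsterX

/-- a lattice vector -/
def v8 : leechLattice := ⟨_, Cfsg.Agent.Leech.FrameAux.eight_mem (some 0)⟩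

theorem pow_u (k : ℕ) (v : leechLattice) : (E 36 ^ k) (u v) = u (A 36 ^ k • v) := by
  induction k with
  | zero => simp
  | succ k ih =>
    rw [pow_succ', LinearEquiv.mul_apply, ih, act_u (by norm_num), pow_succ', mul_smul]

theorem pS_coe (v : leechLattice) (p : GolayPt) :
    ((pS • v : leechLattice) : GolayPt → ℤ) p = (v : GolayPt → ℤ) (shiftP.symm p) := rfl

theorem pS_pow (k : ℕ) (v : leechLattice) (p : GolayPt) :
    ((pS ^ k • v : leechLattice) : GolayPt → ℤ) p = (v : GolayPt → ℤ) ((shiftP⁻¹ ^ k) p) := by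
  induction k generalizing p with
  | zero => simp
  | succ k ih =>
    rw [pow_succ', mul_smul, pS_coe, ih, pow_succ, Equiv.Perm.mul_apply]
    rfl

theorem shift_pow : (shiftP⁻¹ ^ 23 : Equiv.Perm GolayPt) = 1 := by
  have h : ∀ p, (shiftP⁻¹ ^ 23 : Equiv.Perm GolayPt) p = p := by decide +kernel
  exact Equiv.ext h

theorem fixed : (E 36 ^ 23) (u v8) = u v8 := by
  rw [pow_u, A_36]
  congr 1
  apply Subtype.ext
  funext p
  rw [pS_pow, shift_pow]
  rfl

theorem moved : E 36 (u v8) ≠ u v8 := by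
  intro h
  rw [act_u (by norm_num), A_36] at h
  have h1 : (u (pS • v8)).1 (lane (some 0) (some 0)) = (u v8).1 (lane (some 0) (some 0)) := by rw [h]
  have h2 : uf (rt (pS • v8)) (lane (some 0) (some 0)) = uf (rt v8) (lane (some 0) (some 0)) := h1
  rw [uf_lane, uf_lane] at h2
  have h3 : ((v8 : leechLattice) : GolayPt → ℤ) (some 0) = 8 := by
    show (Pi.single (some 0) 8 : GolayPt → ℤ) (some 0) = 8
    rw [Pi.single_eq_same]
  have h4 : ((pS • v8 : leechLattice) : GolayPt → ℤ) (some 0) = 0 := by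
    rw [pS_coe]
    show (Pi.single (some 0) 8 : GolayPt → ℤ) (shiftP.symm (some 0)) = 0
    rw [Pi.single_eq_of_ne]
    decide +kernel
  unfold rt at h2
  rw [h3, h4] at h2
  norm_num at h2

theorem dvd_order : 23 ∣ orderOf (E 36) := by
  let f : (V ≃ₗ[ℚ] V) →* Equiv.Perm V :=
    { toFun := fun g => g.toEquiv
      map_one' := rfl
      map_mul' := fun _ _ => rfl }
  exact Cfsg.Agent.H54.Kill.dvd_orderOf_of_point f (E 36) (r := 23) (by norm_num) (u v8) fixed moved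

theorem kill_conc : Kill ↥Conc.G := by
  have hfin : Finite ↥Conc.G := Cfsg.Agent.H545.PQ.Monster.finite
  have hG := Instance.mGroup
  have hO := InstanceFinal.mOrbit
  have hcard : Nat.card ↥Conc.G = 808017424794512875886459904961710757005754368000000000 := by
    obtain ⟨e⟩ := Cfsg.Agent.MonsterP.Equiv.equiv
    have hMG : InstData.M.G = Conc.G := InstData.M_G
    rw [hMG] at e
    rw [← Nat.card_congr e.toEquiv]
    exact Cfsg.Agent.H545.PQ.Monster.card
  have hu : τ * z * τ⁻¹ ∈ Q := hO.τ_z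
  have hpa : E 36 ∈ C := E_mem_C (by norm_num)
  refine kill_abs Conc.G (by rw [hcard]; norm_num) (a := E 36) (t := τ) (z := z) (C_le_G hpa) τ_mem_G
    (C_le_G (Q_le_C hG.z_mem)) dvd_order ConcGrp.τ_cube ?_ (hG.z_comm _ hpa) hG.z_sq (hG.z_comm _ (Q_le_C hu)) hO.τ_z_ne
  exact (TauRel.τ_p (n := 36) (by norm_num) (by norm_num)).symm

theorem kill {K : Type*} [Group K] (h : Cfsg.Spor.IsoM K) : Kill K := by
  obtain ⟨e⟩ := h
  obtain ⟨e'⟩ := Cfsg.Agent.MonsterP.Equiv.equiv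
  have hMG : InstData.M.G = Conc.G := InstData.M_G
  have h1 := kill_conc
  rw [← hMG] at h1
  exact (Kill.congr (S := ↥InstData.M.G) e'.symm h1).congr e.symm

end Model

end Cfsg.Agent.H478.KillM
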