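import Cfsg.Agent.H54.Kill.Base
import Cfsg.Agent.CpAutTits.Row

/-!
# Kill row for the Tits group (helper478)

`C(x) ∩ C(z)` has order 10; `q = z₁` in the normal elementary abelian subgroup `E` of `C(z)`.
-/

set_option autoImplicit false

namespace Cfsg.Agent.H478.KillTits

open Subgroup Cfsg.Agent.H480 Cfsg.Agent.CpAutTits.Ten
open Cfsg.Agent.TitsK
open Cfsg.Agent.FourTwo.Base (LL)

theorem kill_facts {L : Type*} [Group L] [Finite L] {T : Subgroup L} {xf z jf d z1 : L} (F : Facts T xf z jf d)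
    {E : Subgroup L} (hE2 : IsPGroup 2 ↥E) (hE : z1 ∈ E) (hET : E ≤ T) (hz : z1 * z = z * z1)
    (hEn : ∀ e ∈ E, xf * e * xf⁻¹ ∈ E) (h2 : z1 * z1 = 1) (h1 : z1 ≠ 1) (hne : z1 ≠ z) : Kill ↥T := by
  have hcard := F.ten_base
  -- the only element of order two
  have hun : ∀ x : ↥T, orderOf x = 2 → x * F.zT = F.zT * x → x * F.xT = F.xT * x → x ∈ zpowers F.zT := by
    intro x hx hxz hxx
    let C := centralizer ({F.xT} : Set ↥T) ⊓ centralizer ({F.zT} : Set ↥T)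
    have hxC : x ∈ C := ⟨mem_centralizer_singleton_iff.2 hxx, mem_centralizer_singleton_iff.2 hxz⟩
    have hzC : F.zT ∈ C := ⟨mem_centralizer_singleton_iff.2 F.comm_zx, mem_centralizer_singleton_iff.2 rfl⟩
    have hC : Nat.card C = 10 := hcard
    have h3 := Cfsg.Agent.H54.Kill.mem_zpowers_of_sylow (S := C) Nat.prime_two (by rw [hC]; norm_num)
      (z := (⟨F.zT, hzC⟩ : C)) (x := (⟨x, hxC⟩ : C)) (by rw [← Subgroup.orderOf_coe]; exact F.order_z)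
      (by rw [← Subgroup.orderOf_coe]; exact hx) (Subtype.ext hxz)
    obtain ⟨n, hn⟩ := mem_zpowers_iff.1 h3
    exact mem_zpowers_iff.2 ⟨n, congrArg Subtype.val hn⟩
  refine ⟨2, F.zT, F.xT, Nat.prime_two, F.order_z, by rw [F.order_x]; norm_num, F.comm_zx, hun, ?_⟩
  let q : ↥T := ⟨z1, hET hE⟩
  have hqz : q * F.zT = F.zT * q := Subtype.ext hz
  -- the commutator
  have hcE : z1 * xf * z1⁻¹ * xf⁻¹ ∈ E := by
    have h3 : z1 * xf * z1⁻¹ * xf⁻¹ = z1 * (xf * z1⁻¹ * xf⁻¹) := by group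
    rw [h3]
    exact mul_mem hE (hEn _ (inv_mem hE))
  obtain ⟨n, hn⟩ := hE2 ⟨_, hcE⟩
  have hn' : (z1 * xf * z1⁻¹ * xf⁻¹) ^ 2 ^ n = 1 := by simpa using congrArg Subtype.val hn
  have hcop : (orderOf (q * F.xT * q⁻¹ * F.xT⁻¹)).Coprime (orderOf F.xT) := by
    rw [F.order_x]
    refine Nat.Coprime.coprime_dvd_left (orderOf_dvd_of_pow_eq_one (Subtype.ext hn')) ?_
    exact Nat.Coprime.pow_left n (by norm_num)
  refine not_nilpotent_of_commutator (mem_centralizer_singleton_iff.2 hqz) hcop ?_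
  intro hc
  have hc' : (z1 * xf * z1⁻¹ * xf⁻¹) * xf = xf * (z1 * xf * z1⁻¹ * xf⁻¹) := congrArg Subtype.val hc
  -- the commutator commutes with `xf` : its fifth power is one
  have key : ∀ m : ℕ, xf ^ m * z1⁻¹ * (xf ^ m)⁻¹ = z1⁻¹ * (z1 * xf * z1⁻¹ * xf⁻¹) ^ m := by
    intro m
    induction m with
    | zero => simp
    | succ m ih =>
      have hcm : Commute xf ((z1 * xf * z1⁻¹ * xf⁻¹) ^ m) := (show Commute xf _ from hc'.symm).pow_right m
      calc xf ^ (m + 1) * z1⁻¹ * (xf ^ (m + 1))⁻¹ = xf * (xf ^ m * z1⁻¹ * (xf ^ m)⁻¹) * xf⁻¹ := by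
            rw [pow_succ']; group
        _ = xf * (z1⁻¹ * (z1 * xf * z1⁻¹ * xf⁻¹) ^ m) * xf⁻¹ := by rw [ih]
        _ = xf * z1⁻¹ * xf⁻¹ * (xf * (z1 * xf * z1⁻¹ * xf⁻¹) ^ m * xf⁻¹) := by group
        _ = xf * z1⁻¹ * xf⁻¹ * (z1 * xf * z1⁻¹ * xf⁻¹) ^ m := by rw [hcm.eq, mul_inv_cancel_right]
        _ = z1⁻¹ * ((z1 * xf * z1⁻¹ * xf⁻¹) * (z1 * xf * z1⁻¹ * xf⁻¹) ^ m) := by simp only [mul_assoc, inv_mul_cancel_left]
        _ = z1⁻¹ * (z1 * xf * z1⁻¹ * xf⁻¹) ^ (m + 1) := by rw [pow_succ']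
  have h5 := key 5
  rw [F.x5, one_mul, inv_one, mul_one] at h5
  have h6 : (z1 * xf * z1⁻¹ * xf⁻¹) ^ 5 = 1 := (mul_eq_left.1 h5.symm)
  have h7 : z1 * xf * z1⁻¹ * xf⁻¹ = 1 := by
    have h8 : orderOf (z1 * xf * z1⁻¹ * xf⁻¹) ∣ 1 := by
      have e : Nat.gcd (2 ^ n) 5 = 1 := Nat.Coprime.pow_left n (by norm_num)
      rw [← e]
      exact Nat.dvd_gcd (orderOf_dvd_of_pow_eq_one hn') (orderOf_dvd_of_pow_eq_one h6)
    exact orderOf_eq_one_iff.1 (Nat.dvd_one.1 h8)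
  have h8 : z1 * xf = xf * z1 := by
    have h9 : z1 * xf = z1 * xf * z1⁻¹ * xf⁻¹ * (xf * z1) := by group
    rw [h9, h7, one_mul]
  have ho : orderOf q = 2 := orderOf_eq_prime (Subtype.ext (by
    show z1 ^ 2 = 1
    rw [pow_two, h2])) fun h => h1 (congrArg Subtype.val h)
  have h9 := hun q ho hqz (Subtype.ext h8)
  -- `q` is a power of `zT` : `1` or `zT`
  obtain ⟨i, hi⟩ := mem_zpowers_iff.1 h9
  have hz2 : F.zT ^ (2 : ℤ) = 1 := by
    rw [zpow_two]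
    exact Subtype.ext (by show z * z = 1; rw [← pow_two]; exact F.z2)
  rcases Int.even_or_odd i with ⟨j, hj⟩ | ⟨j, hj⟩
  · rw [hj, ← two_mul, zpow_mul, hz2, one_zpow] at hi
    exact h1 (congrArg Subtype.val hi.symm)
  · rw [hj, zpow_add, zpow_mul, hz2, one_zpow, one_mul, zpow_one] at hi
    exact hne (congrArg Subtype.val hi.symm)

theorem kill_TT : Kill ↥TT := by
  have hfin : Finite LL := by infer_instance
  have hxH : xf ∈ HT := TT_le xf_mem_TT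
  have hxz : xf * z * xf⁻¹ = z := by
    rw [z_comm_xf, mul_inv_cancel_right]
  have hxU : xf ∉ UT := by
    intro h
    obtain ⟨n, hn⟩ := isPGroup_UT ⟨xf, h⟩
    have hn' : xf ^ 2 ^ n = 1 := by simpa using congrArg Subtype.val hn
    have h8 : orderOf xf ∣ 1 := by
      have e : Nat.gcd (2 ^ n) 5 = 1 := Nat.Coprime.pow_left n (by norm_num)
      rw [← e]
      exact Nat.dvd_gcd (orderOf_dvd_of_pow_eq_one hn') (orderOf_dvd_of_pow_eq_one xf_pow5)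
    exact xf_ne (orderOf_eq_one_iff.1 (Nat.dvd_one.1 h8))
  have hz1U : z1 ∈ UT := V4_le_UT z1_mem_V4
  have hcz : z1 * z = z * z1 := by
    have h := z_central hz1U
    calc z1 * z = z1 * z * z1⁻¹ * z1 := by group
      _ = z * z1 := by rw [h]
  have hn1 : z1 ≠ 1 := by
    intro h
    exact hxU (cent_V_le hxH hxz (by rw [h]; group))
  have hnz : z1 ≠ z := by
    intro h
    exact hxU (cent_V_le hxH hxz (by rw [h]; exact hxz))
  have hsq : z1 * z1 = 1 := by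
    obtain ⟨t, ht, h⟩ := V4_cases z1_mem_V4 hn1
    have h3 : t * (z1 * z1) * t⁻¹ = 1 := by
      calc t * (z1 * z1) * t⁻¹ = (t * z1 * t⁻¹) * (t * z1 * t⁻¹) := by group
        _ = 1 := by rw [h, z_sq]
    have h4 : z1 * z1 = t⁻¹ * (t * (z1 * z1) * t⁻¹) * t := by group
    rw [h4, h3]
    group
  refine kill_facts (E := Q8 ⊓ TT) (z1 := z1) facts ?_ ⟨z1_mem_Q8, z1_mem_TT⟩ inf_le_right hcz ?_ hsq hn1 hnz
  · exact isPGroup_UT.to_le (inf_le_left.trans Q8_le)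
  · intro e he
    exact ⟨Pz_conj_Q8 (mem_Pz.2 ⟨hxH, hxz⟩) he.1, TT_conj hxH he.2⟩

theorem congr_aux {S T : Type*} [Group S] [Group T] (e : T ≃* S) (h : Kill S) : Kill T := h.congr e.symm

set_option maxRecDepth 100000 in
theorem kill {K : Type*} [Group K] (h : Cfsg.Lie.IsoTits K) : Kill K := by
  obtain ⟨e⟩ := Cfsg.Agent.CpAutTits.Row.exists_equiv h
  exact congr_aux (S := ↥Cfsg.Agent.TitsK.TT) e kill_TT

end Cfsg.Agent.H478.KillTits
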