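import Mathlib
import Cfsg.Agent.H478.AlmostSimple
import Cfsg.Agent.H478.CycConjQuot
import Cfsg.Agent.H518.DghpCore
import Cfsg.Prelude.Def_RootSubgroups

/-!
# Non-generating pairs of elements of coprime prime power orders

If every component of a group with trivial solvable radical has a pair of orders as in `Core` and every
non-generating pair of coprime prime power elements generates a solvable group after conjugating one of them, then the
group is simple.
-/

set_option autoImplicit false

namespace Cfsg.Agent.H478.NonGen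

open Cfsg Subgroup Cfsg.Agent.SignalizersComponents.Components Cfsg.Agent.H518.Dghp

variable {Q : Type*} [Group Q] [Finite Q]

/-- `y` acts on `L` as an element of `L` of order `n`. -/
def Acts (L : Subgroup Q) (n : ℕ) (y : Q) : Prop :=
  ∃ u ∈ L, orderOf u = n ∧ ∃ c ∈ centralizer (L : Set Q), y = u * c

omit [Finite Q] in
theorem Acts.conj {L : Subgroup Q} {n : ℕ} {y : Q} (g : Q)
    (h : Acts (L.map (MulAut.conj g⁻¹).toMonoidHom) n y) : Acts L n (g * y * g⁻¹) := by
  obtain ⟨_, ⟨u, hu, rfl⟩, hn, c, hc, rfl⟩ := h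
  have h1 : (MulAut.conj g⁻¹).toMonoidHom u = g⁻¹ * u * g := by simp
  rw [h1] at hn ⊢
  refine ⟨u, hu, ?_, g * c * g⁻¹, ?_, ?_⟩
  · rw [← hn]
    have h2 : g⁻¹ * u * g = MulAut.conj g⁻¹ u := by simp
    rw [h2, MulEquiv.orderOf_eq]
  · rw [mem_centralizer_iff] at hc ⊢
    intro x hx
    have h3 := hc (g⁻¹ * x * g) ⟨x, hx, by simp⟩
    calc x * (g * c * g⁻¹) = g * (g⁻¹ * x * g * c) * g⁻¹ := by group
      _ = g * (c * (g⁻¹ * x * g)) * g⁻¹ := by rw [h3]
      _ = g * c * g⁻¹ * x := by group
  · group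

omit [Finite Q] in
/-- If `y` acts as an element of order `s ^ b` on the centreless `L` and `x ∈ L` has order `r ^ a`, `⟨x, y⟩` is not
solvable. -/
theorem not_solvable {L : Subgroup Q} (hz : center L = ⊥) {r s a b : ℕ}
    (hK : ∀ x y : L, orderOf x = r ^ a → orderOf y = s ^ b →
      ¬ Group.IsSolvable (Subgroup.closure ({x, y} : Set L)))
    {x y : Q} (hx : x ∈ L) (hxo : orderOf x = r ^ a) (hy : Acts L (s ^ b) y) :
    ¬ Group.IsSolvable (Subgroup.closure ({x, y} : Set Q)) := by
  intro hsol
  obtain ⟨u, hu, huo, c, hc, rfl⟩ := hy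
  have hcn : ∀ z ∈ L, c * z * c⁻¹ = z := by
    intro z hz
    rw [mem_centralizer_iff] at hc
    rw [← hc z hz]; group
  have hxN : x ∈ normalizer (L : Set Q) := le_normalizer hx
  have hcN : c ∈ normalizer (L : Set Q) := by
    rw [mem_normalizer_iff]
    intro z
    constructor
    · intro h; rw [hcn z h]; exact h
    · intro h
      have h1 : z = c⁻¹ * (c * z * c⁻¹) * c := by group
      have h2 : c⁻¹ * (c * z * c⁻¹) * c = c * z * c⁻¹ := by
        have h3 := hcn _ h
        calc c⁻¹ * (c * z * c⁻¹) * c = c⁻¹ * (c * (c * z * c⁻¹) * c⁻¹) * c := by rw [h3]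
          _ = c * z * c⁻¹ := by group
      rw [h1, h2]; exact h
  have huN : u * c ∈ normalizer (L : Set Q) := mul_mem (le_normalizer hu) hcN
  set H : Subgroup Q := closure ({x, u * c} : Set Q) with hH
  have hHN : H ≤ normalizer (L : Set Q) := by
    rw [hH, closure_le]
    rintro z (rfl | rfl)
    · exact hxN
    · exact huN
  let ψ : H →* MulAut L := (Subgroup.normalizerMonoidHom L).comp (Subgroup.inclusion hHN)
  have h1 : Group.IsSolvable ψ.range := by
    have := hsol
    exact Group.isSolvable_of_surjective ψ.rangeRestrict_surjective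
  let x' : L := ⟨x, hx⟩
  let u' : L := ⟨u, hu⟩
  have hle : (closure ({x', u'} : Set L)).map (MulAut.conj (G := L)) ≤ ψ.range := by
    rw [MonoidHom.map_closure, closure_le]
    rintro _ ⟨z, (rfl | rfl), rfl⟩
    · refine ⟨⟨x, subset_closure (by simp)⟩, ?_⟩
      ext t
      rfl
    · refine ⟨⟨u * c, subset_closure (by simp)⟩, ?_⟩
      ext t
      show u * c * t * (u * c)⁻¹ = u * t * u⁻¹
      calc u * c * t * (u * c)⁻¹ = u * (c * t * c⁻¹) * u⁻¹ := by group
        _ = u * t * u⁻¹ := by rw [hcn _ t.2]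
  have h2 : Group.IsSolvable ↥((closure ({x', u'} : Set L)).map (MulAut.conj (G := L))) := by
    have := h1
    exact Group.isSolvable_of_isSolvable_injective (Subgroup.inclusion_injective hle)
  have hinj : Function.Injective (MulAut.conj (G := L)) := by
    rw [injective_iff_map_eq_one]
    intro t ht
    have h3 : t ∈ center L := by
      rw [mem_center_iff]
      intro w
      have h4 := congrArg (fun f : MulAut L => f w) ht
      have h5 : t * w * t⁻¹ = w := h4
      rw [mul_inv_eq_iff_eq_mul] at h5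
      exact h5.symm
    rwa [hz, mem_bot] at h3
  have h3 : Group.IsSolvable ↥(closure ({x', u'} : Set L)) := by
    have := h2
    exact Group.isSolvable_of_isSolvable_injective
      (f := ((closure ({x', u'} : Set L)).equivMapOfInjective _ hinj).toMonoidHom)
      ((closure ({x', u'} : Set L)).equivMapOfInjective _ hinj).injective
  exact hK x' u' (by rw [← Subgroup.orderOf_coe]; exact hxo) (by rw [← Subgroup.orderOf_coe]; exact huo) h3

/-- Elements acting on each of a set of pairwise commuting subgroups as elements of order `s ^ b`. -/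
theorem exists_acts {s b : ℕ} (hs : s.Prime) (S : Set (Subgroup Q)) (hcomm : ∀ A ∈ S, ∀ B ∈ S, A ≠ B → A ≤ centralizer (B : Set Q))
    (hex : ∀ A ∈ S, ∃ u ∈ A, orderOf u = s ^ b) :
    ∃ y ∈ sSup S, (∃ k, orderOf y = s ^ k) ∧ ∀ A ∈ S, Acts A (s ^ b) y := by
  classical
  have hfin : S.Finite := Set.toFinite S
  have key : ∀ T : Finset (Subgroup Q), (T : Set (Subgroup Q)) ⊆ S →
      ∃ y ∈ sSup S, (∃ k, orderOf y = s ^ k) ∧ (∀ A ∈ T, Acts A (s ^ b) y) ∧
        ∀ A ∈ S, A ∉ T → y ∈ centralizer (A : Set Q) := by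
    intro T
    induction T using Finset.induction_on with
    | empty =>
      intro _
      exact ⟨1, one_mem _, ⟨0, by simp⟩, by simp, fun _ _ _ => one_mem _⟩
    | insert A T hA ih =>
      intro hsub
      obtain ⟨y, hyS, ⟨k, hk⟩, hy1, hy2⟩ := ih (fun B hB => hsub (by simp; exact Or.inr hB))
      have hAS : A ∈ S := hsub (by simp)
      obtain ⟨u, huA, huo⟩ := hex A hAS
      have hyA := hy2 A hAS hA
      have hyu : y * u = u * y := ((mem_centralizer_iff.1 hyA) u huA).symm
      refine ⟨y * u, mul_mem hyS ((le_sSup hAS) huA), ?_, ?_, ?_⟩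
      · have hd : orderOf (y * u) ∣ s ^ (max k b) := by
          apply orderOf_dvd_of_pow_eq_one
          have hc : Commute y u := hyu
          rw [hc.mul_pow]
          have e1 : y ^ s ^ (max k b) = 1 := by
            apply orderOf_dvd_iff_pow_eq_one.1
            rw [hk]; exact pow_dvd_pow _ (le_max_left _ _)
          have e2 : u ^ s ^ (max k b) = 1 := by
            apply orderOf_dvd_iff_pow_eq_one.1
            rw [huo]; exact pow_dvd_pow _ (le_max_right _ _)
          rw [e1, e2, one_mul]
        obtain ⟨j, -, hj⟩ := (Nat.dvd_prime_pow hs).1 hd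
        exact ⟨j, hj⟩
      · intro B hB
        rw [Finset.mem_insert] at hB
        rcases hB with rfl | hB
        · exact ⟨u, huA, huo, y, hyA, hyu⟩
        · obtain ⟨v, hv, hvo, c, hc, rfl⟩ := hy1 B hB
          have hBS : B ∈ S := hsub (by simp; exact Or.inr hB)
          have hne : A ≠ B := by
            rintro rfl
            exact hA hB
          exact ⟨v, hv, hvo, c * u, mul_mem hc (hcomm A hAS B hBS hne huA), by group⟩
      · intro B hBS hBn
        rw [Finset.mem_insert, not_or] at hBn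
        exact mul_mem (hy2 B hBS hBn.2) (hcomm A hAS B hBS (fun h => hBn.1 h.symm) huA)
  obtain ⟨y, h1, h2, h3, -⟩ := key hfin.toFinset (by simp)
  exact ⟨y, h1, h2, fun A hA => h3 A (by simpa using hA)⟩

/-- **The reduction.** -/
theorem isSimpleGroup_of (h0 : ∀ N : Subgroup Q, N.Normal → Group.IsSolvable N → N = ⊥) [Nontrivial Q]
    (hcore : ∀ K : Subgroup Q, IsSimpleGroup K → ¬ IsMulCommutative K → Core K)
    (h : ∀ p q : ℕ, p.Prime → q.Prime → p ≠ q → ∀ x y : Q, (∃ k : ℕ, orderOf x = p ^ k) →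
      (∃ k : ℕ, orderOf y = q ^ k) → Subgroup.closure ({x, y} : Set Q) ≠ ⊤ →
      ∃ g : Q, Group.IsSolvable ↥(Subgroup.closure ({x, g * y * g⁻¹} : Set Q))) :
    IsSimpleGroup Q ∧ ¬ IsMulCommutative Q := by
  have hcl := Cfsg.Agent.H478.AlmostSimple.centralizer_layer h0
  -- a component
  have hE : ∃ K : Subgroup Q, IsComponent K := by
    by_contra hcon
    push Not at hcon
    have hE : layer Q = ⊥ := by
      rw [eq_bot_iff, layer_le_iff]
      intro K hK
      exact (hcon K hK).elim
    rw [hE] at hcl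
    have h3 : centralizer ((⊥ : Subgroup Q) : Set Q) = ⊤ := by
      rw [eq_top_iff]
      intro x _
      rw [mem_centralizer_iff]
      intro y hy
      rw [mem_bot.1 hy, one_mul, mul_one]
    rw [h3] at hcl
    exact bot_ne_top hcl.symm
  obtain ⟨K, hK⟩ := hE
  -- the centre of a component is trivial
  have hZE : ((center ↥(layer Q)).map (layer Q).subtype) = ⊥ := by
    have hLN : (layer Q).Normal := layer_normal Q
    apply h0 _ ConjAct.normal_of_characteristic_of_normal
    apply Group.isSolvable_of_comm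
    rintro ⟨_, ⟨x, hx, rfl⟩⟩ ⟨_, ⟨y, hy, rfl⟩⟩
    apply Subtype.ext
    have h4 : ((x * y : ↥(layer Q)) : Q) = ((y * x : ↥(layer Q)) : Q) :=
      congrArg Subtype.val (mem_center_iff.1 hy x)
    exact h4
  have hZ : ∀ L : Subgroup Q, IsComponent L → center L = ⊥ := by
    intro L hL
    rw [eq_bot_iff]
    intro z hz
    rw [mem_bot]
    have hzE : (z : Q) ∈ layer Q := component_le_layer hL z.2
    have h1 : (z : Q) ∈ (center ↥(layer Q)).map (layer Q).subtype := by
      refine ⟨⟨z, hzE⟩, ?_, rfl⟩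
      rw [SetLike.mem_coe, mem_center_iff]
      have h2 : layer Q ≤ centralizer ({(z : Q)} : Set Q) := by
        rw [layer_le_iff]
        intro M hM m hm
        rw [mem_centralizer_singleton_iff]
        by_cases hLM : M = L
        · subst hLM
          exact congrArg Subtype.val (mem_center_iff.1 hz ⟨m, hm⟩)
        · have h3 := component_le_centralizer_of_ne hM hL hLM hm
          rw [mem_centralizer_iff] at h3
          exact (h3 z z.2).symm
      rintro ⟨m, hm⟩
      apply Subtype.ext
      exact mem_centralizer_singleton_iff.1 (h2 hm)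
    rw [hZE, mem_bot] at h1
    exact Subtype.ext h1
  have hKs : IsSimpleGroup K := by
    have := hK.2.2
    exact ((QuotientGroup.quotientMulEquivOfEq (hZ K hK)).trans QuotientGroup.quotientBot).symm.isSimpleGroup
  have hKna : ¬ IsMulCommutative K := quasisimple_not_isMulCommutative hK.2
  obtain ⟨r, s, a, b, hr, hs, hrs, ha, hb, ⟨x, hx⟩, ⟨u, hu⟩, hcK⟩ := hcore K hKs hKna
  -- the conjugates of `K`
  let S : Set (Subgroup Q) := {L | ∃ g : Q, L = K.map (MulAut.conj g).toMonoidHom}
  have hSc : ∀ L ∈ S, IsComponent L := by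
    rintro _ ⟨g, rfl⟩
    exact isComponent_conj g hK
  have hKS : K ∈ S := ⟨1, by ext; simp⟩
  obtain ⟨y, hyS, ⟨k, hk⟩, hyA⟩ := exists_acts (s := s) (b := b) hs S
    (fun A hA B hB hne => component_le_centralizer_of_ne (hSc A hA) (hSc B hB) hne) (by
      rintro _ ⟨g, rfl⟩
      refine ⟨_, ⟨(u : Q), u.2, rfl⟩, ?_⟩
      rw [MulEquiv.coe_toMonoidHom, MulEquiv.orderOf_eq, Subgroup.orderOf_coe, hu])
  have hns : ∀ g : Q, ¬ Group.IsSolvable (Subgroup.closure ({(x : Q), g * y * g⁻¹} : Set Q)) := by
    intro g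
    apply not_solvable (hZ K hK) hcK x.2 (by rw [Subgroup.orderOf_coe, hx])
    apply Acts.conj
    exact hyA _ ⟨g⁻¹, rfl⟩
  have htop : Subgroup.closure ({(x : Q), y} : Set Q) = ⊤ := by
    by_contra hne
    obtain ⟨g, hg⟩ := h r s hr hs hrs x y ⟨a, by rw [Subgroup.orderOf_coe, hx]⟩ ⟨k, hk⟩ hne
    exact hns g hg
  have hKn : K.Normal := by
    have h1 : Subgroup.closure ({(x : Q), y} : Set Q) ≤ layer Q := by
      rw [closure_le]
      have h2 : sSup S ≤ layer Q := sSup_le (fun L hL => component_le_layer (hSc L hL))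
      rintro z (rfl | rfl)
      · exact component_le_layer hK x.2
      · exact h2 hyS
    rw [htop, top_le_iff] at h1
    have h2 := layer_le_normalizer_component hK
    rw [h1, top_le_iff] at h2
    exact normalizer_eq_top_iff.1 h2
  have hKt : K = ⊤ := by
    rw [← top_le_iff, ← htop, closure_le]
    have h2 : sSup S ≤ K := by
      apply sSup_le
      rintro _ ⟨g, rfl⟩
      rintro _ ⟨w, hw, rfl⟩
      exact hKn.conj_mem w hw g
    rintro z (rfl | rfl)
    · exact x.2
    · exact h2 hyS
  subst hKt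
  constructor
  · exact (Subgroup.topEquiv (G := Q)).symm.isSimpleGroup
  · intro hc
    exact hKna inferInstance

/-- **S3848 from the core.** -/
theorem result_of.{u} {G : Type u} [Group G] [Finite G]
    (hcore : ∀ (K : Type u) [Group K] [Finite K] [IsSimpleGroup K], ¬ IsMulCommutative K → Core K)
    (hG : ¬ Group.IsSolvable G)
    (h : ∀ p q : ℕ, p.Prime → q.Prime → p ≠ q → ∀ x y : G, (∃ k : ℕ, orderOf x = p ^ k) →
      (∃ k : ℕ, orderOf y = q ^ k) → Subgroup.closure ({x, y} : Set G) ≠ ⊤ →
      ∃ g : G, Group.IsSolvable ↥(Subgroup.closure ({x, g * y * g⁻¹} : Set G))) :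
    ∃ (N : Subgroup G) (_ : N.Normal), N = Cfsg.solvableRadical G ∧ IsSimpleGroup (G ⧸ N) ∧
      ¬ IsMulCommutative (G ⧸ N) := by
  obtain ⟨R, hRc, hRs, hRm⟩ := Cfsg.Agent.SignalizersComponents.ComponentExists.exists_solvableRadical G
  have hRn : R.Normal := inferInstance
  have hRe : R = Cfsg.solvableRadical G := by
    apply le_antisymm
    · exact le_sSup ⟨hRn, hRs⟩
    · apply sSup_le
      rintro N ⟨h1, h2⟩
      exact hRm N h1 h2
  refine ⟨R, hRn, hRe, ?_⟩
  have h0 : ∀ N : Subgroup (G ⧸ R), N.Normal → Group.IsSolvable N → N = ⊥ := fun N hN hNs =>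
    Cfsg.Agent.H478.AlmostSimple.quotient_radical hRs hRm hN hNs
  have hnt : Nontrivial (G ⧸ R) := by
    rw [← not_subsingleton_iff_nontrivial]
    intro hsub
    apply hG
    have htop : R = ⊤ := by
      rw [eq_top_iff]
      intro g _
      rw [← QuotientGroup.eq_one_iff]
      exact Subsingleton.elim _ _
    rw [htop] at hRs
    exact Group.isSolvable_of_surjective (f := (Subgroup.topEquiv (G := G)).toMonoidHom)
      (Subgroup.topEquiv (G := G)).surjective
  apply isSimpleGroup_of h0 (fun K hK hKna => hcore K hKna)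
  intro p q hp hq hpq x y ⟨k, hk⟩ ⟨l, hl⟩ hne
  obtain ⟨x', rfl, k', hk'⟩ := Cfsg.Agent.H478.CycConjQuot.exists_lift (QuotientGroup.mk' R) hp
    (QuotientGroup.mk'_surjective R) hk
  obtain ⟨y', rfl, l', hl'⟩ := Cfsg.Agent.H478.CycConjQuot.exists_lift (QuotientGroup.mk' R) hq
    (QuotientGroup.mk'_surjective R) hl
  have hmap : ∀ u v : G, (closure ({u, v} : Set G)).map (QuotientGroup.mk' R) =
      closure ({QuotientGroup.mk' R u, QuotientGroup.mk' R v} : Set (G ⧸ R)) := by
    intro u v
    rw [MonoidHom.map_closure, Set.image_pair]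
  have hne' : closure ({x', y'} : Set G) ≠ ⊤ := by
    intro htop
    apply hne
    rw [← hmap, htop, ← MonoidHom.range_eq_map, MonoidHom.range_eq_top]
    exact QuotientGroup.mk'_surjective R
  obtain ⟨g, hg⟩ := h p q hp hq hpq x' y' ⟨k', hk'⟩ ⟨l', hl'⟩ hne'
  refine ⟨QuotientGroup.mk' R g, ?_⟩
  rw [← map_mul, ← map_inv, ← map_mul, ← hmap]
  exact Group.isSolvable_of_surjective (f := (QuotientGroup.mk' R).subgroupMap _)
    ((QuotientGroup.mk' R).subgroupMap_surjective _)

end Cfsg.Agent.H478.NonGen
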