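import Cfsg.Agent.H478.SporCore
import Cfsg.Agent.H379.J2Spec
import Cfsg.Agent.NotCT.Orders

/-!
# `Core` for `J₂` (helper478)
-/

set_option autoImplicit false

namespace Cfsg.Agent.H478.SporJ2

open Cfsg Subgroup Cfsg.Agent.H518.Dghp Cfsg.Agent.H478.SporCore

theorem j2 {G : Type*} [Group G] [Finite G] (h : Spor.IsoJ2 G) : Core G := by
  have hN := NotCT.Orders.j2 h
  obtain ⟨e⟩ := h
  refine core_odd (r := 7) (s := 5) (K := 1) (L := 2) (by norm_num) (by norm_num) (by norm_num) ?_ ?_ ?_ ?_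
    (by decide +kernel) ?_ (by decide +kernel)
  · rw [hN]; norm_num
  · rw [hN]; norm_num
  · intro x y hx hy hc
    have h1 : orderOf (x * y) = 35 := by
      rw [Commute.orderOf_mul_eq_mul_orderOf_of_coprime hc (by rw [hx, hy]; norm_num), hx, hy]
    have h2 := H379.J2Spec.orders_J2 (e (x * y))
    rw [MulEquiv.orderOf_eq, h1] at h2
    revert h2; decide
  · rw [hN]; norm_num
  · rw [hN]; norm_num

end Cfsg.Agent.H478.SporJ2
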