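import Cfsg.Agent.H478.SporCore
import Cfsg.Agent.H393.Iso.TitsJ4
import Cfsg.Agent.KFacts.J4.SheetJ4
import Cfsg.Agent.J4Type.CoordPR
import Cfsg.Agent.SporadicA.MathieuRecog

/-!
# `Core` for `J₄` (helper478)

The primes 29 and 2; `J₄` has an element of order 8 (a section of `J₄` is `M₂₂`).
-/

set_option autoImplicit false

namespace Cfsg.Agent.H478.SporJ4

open Cfsg Subgroup Cfsg.Agent.H518.Dghp Cfsg.Agent.H478.SporCore
open Cfsg.Agent.SporadicA.GolayBase Cfsg.Agent.SporadicA.GolayPerm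
open Cfsg.Agent.J4Type.CocodeMask Cfsg.Agent.J4Type.CoordPR

/-- an element of order 8 of `M22` -/
noncomputable def e8 : M24 := mk 973071901534343704982439463491063360 (by decide +kernel)

theorem tab_e8 : IsTab e8 973071901534343704982439463491063360 := isTab_mk _ _

theorem e8_pow : e8 ^ 8 = 1 := by
  have h : e8 ^ 8 = ((e8 * e8) * (e8 * e8)) * ((e8 * e8) * (e8 * e8)) := by
    simp only [pow_succ, pow_zero, one_mul, mul_assoc]
  rw [h]
  exact eq_of_tab (((tab_e8.mul tab_e8).mul (tab_e8.mul tab_e8)).mul ((tab_e8.mul tab_e8).mul (tab_e8.mul tab_e8)))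
    isTab_one (by decide +kernel)

theorem e8_pow_four : e8 ^ 4 ≠ 1 := by
  have h : e8 ^ 4 = ((e8 * e8) * (e8 * e8)) := by
    simp only [pow_succ, pow_zero, one_mul, mul_assoc]
  rw [h]
  exact ne_of_tab ((tab_e8.mul tab_e8).mul (tab_e8.mul tab_e8)) isTab_one (some 1) (by decide +kernel)

theorem e8_mem : (e8 : Equiv.Perm GolayPt) ∈ Spor.M22 := by
  rw [Cfsg.Agent.SporadicA.MathieuRecog.mem_M22_iff]
  exact ⟨e8.2, inn_of_tab tab_e8 (by decide +kernel) (by decide +kernel)⟩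

/-- a preimage of an element of order `n` has a power of order `n` -/
theorem lift_order {A B : Type*} [Group A] [Group B] [Finite A] (f : A →* B) {b : B} {n : ℕ} (hb : orderOf b = n)
    {a : A} (ha : f a = b) : ∃ x : A, orderOf x = n := by
  have h1 : n ∣ orderOf a := by
    rw [← hb, ← ha]
    exact orderOf_map_dvd f a
  obtain ⟨m, hm⟩ := h1
  have hm0 : m ≠ 0 := by
    rintro rfl
    exact (orderOf_pos a).ne' hm
  refine ⟨a ^ m, ?_⟩
  rw [orderOf_pow_of_dvd hm0 ⟨n, by rw [hm, mul_comm]⟩, hm, Nat.mul_div_cancel _ (Nat.pos_of_ne_zero hm0)]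

theorem orderOf_e8 : orderOf (⟨(e8 : Equiv.Perm GolayPt), e8_mem⟩ : Spor.M22) = 8 := by
  have : Fact (Nat.Prime 2) := ⟨Nat.prime_two⟩
  have h := orderOf_eq_prime_pow (p := 2) (n := 2) (x := (⟨(e8 : Equiv.Perm GolayPt), e8_mem⟩ : Spor.M22)) ?_ ?_
  · rw [h]; norm_num
  · intro h4
    have h5 : (e8 : Equiv.Perm GolayPt) ^ 4 = 1 := congrArg Subtype.val h4
    exact e8_pow_four (Subtype.ext h5)
  · have h5 : (e8 : Equiv.Perm GolayPt) ^ 8 = 1 := by rw [← Subgroup.coe_pow, e8_pow, Subgroup.coe_one]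
    exact Subtype.ext h5

/-- `J₄` has an element of order 8 -/
theorem exists_eight {K : Type*} [Group K] [Finite K] (h : Spor.IsoJ4 K) : ∃ x : K, orderOf x = 8 := by
  obtain ⟨-, -, ⟨F⟩⟩ := KFacts.J4.Base.exists_full h
  have hs := KFacts.J4.AutP.pi_surjective F.C.toCent
  generalize KFacts.J4.AutP.pi F.C.toCent = f at hs
  generalize KFacts.J4.Base.MM F.C.toCent = M at f hs
  obtain ⟨c, hc⟩ := hs ⟨(e8 : Equiv.Perm GolayPt), e8_mem⟩
  obtain ⟨x, hx⟩ := lift_order f orderOf_e8 hc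
  exact ⟨(x : K), by rw [Subgroup.orderOf_coe, hx]⟩

theorem j4 {G : Type*} [Group G] [Finite G] (h : Spor.IsoJ4 G) : Core G := by
  have hN := NotCT.Orders.j4 h
  refine core_two (r := 29) (b := 3) (K := 21) (by norm_num) (by norm_num) ?_ ?_ (H393.Iso.na_j4_29 h) (by norm_num)
    (by simpa using exists_eight h) (by norm_num) ?_ (by decide +kernel)
  · rw [hN]; norm_num
  · rw [hN]; norm_num
  · rw [hN]; norm_num

end Cfsg.Agent.H478.SporJ4
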