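import Cfsg.Agent.H478.SporCore
import Cfsg.Agent.H413.JOneLocal
import Cfsg.Agent.CpAutTits.Row
import Cfsg.Agent.NotCT.Orders

/-!
# `Core` for `J₁` and the Tits group (helper478)
-/

set_option autoImplicit false

namespace Cfsg.Agent.H478.SporOdd

open Cfsg Subgroup Cfsg.Agent.H518.Dghp Cfsg.Agent.H478.SporCore

theorem ncomm_of_card {G : Type*} [Group G] {x : G} {s n : ℕ}
    (h : Nat.card (centralizer ({x} : Set G)) = n) (hs : ¬ s ∣ n) {y : G} (hy : orderOf y = s) : x * y ≠ y * x := by
  intro hc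
  have h5 : y ∈ centralizer ({x} : Set G) := mem_centralizer_singleton_iff.2 hc.symm
  have h6 := orderOf_dvd_natCard (⟨y, h5⟩ : centralizer ({x} : Set G))
  rw [Subgroup.orderOf_mk, hy, h] at h6
  exact hs h6

theorem j1 {G : Type*} [Group G] [Finite G] (h : Spor.IsoJ1 G) : Core G := by
  have hN := NotCT.Orders.j1 h
  obtain ⟨e⟩ := h
  refine core_odd (r := 3) (s := 11) (K := 1) (L := 1) (by norm_num) (by norm_num) (by norm_num) ?_ ?_ ?_ ?_
    (by decide +kernel) ?_ (by decide +kernel)
  · rw [hN]; norm_num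
  · rw [hN]; norm_num
  · intro x y hx hy hc
    refine ncomm_of_card (s := 11) (H413.JOneLocal.isLocal.cent3 (e x) (by rw [MulEquiv.orderOf_eq, hx]))
      (by norm_num) (y := e y) (by rw [MulEquiv.orderOf_eq, hy]) ?_
    rw [← map_mul, hc, map_mul]
  · rw [hN]; norm_num
  · rw [hN]; norm_num

theorem tits {G : Type*} [Group G] [Finite G] (h : Lie.IsoTits G) : Core G := by
  have O := CpAutTits.Row.out h
  refine core_odd (r := 5) (s := 13) (K := 2) (L := 1) (by norm_num) (by norm_num) (by norm_num) ?_ ?_ ?_ ?_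
    (by decide +kernel) ?_ (by decide +kernel)
  · rw [O.card]; norm_num
  · rw [O.card]; norm_num
  · intro x y hx hy
    exact ncomm_of_card (s := 13) (O.cent x hx) (by norm_num) hy
  · rw [O.card]; norm_num
  · rw [O.card]; norm_num

end Cfsg.Agent.H478.SporOdd
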