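import Cfsg.Agent.H478.SporCore
import Cfsg.Agent.H393.Iso.Ru
import Cfsg.Agent.Schreier.RuSyl
import Cfsg.Agent.RuLat.Main

/-!
# `Core` for `Ru` (helper478)

The primes 29 and 2; the product of two of the three involutions generating a Sylow 2-subgroup has order 8.
-/

set_option autoImplicit false

namespace Cfsg.Agent.H478.SporRu

open Cfsg Subgroup Cfsg.Agent.H518.Dghp Cfsg.Agent.H478.SporCore
open Cfsg.Agent.SporadicB Cfsg.Agent.Schreier.RuSyl

theorem w01_pow : W [0, 1] ^ 8 = 1 := by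
  have h : W [0, 1] ^ 8 = W [0, 1, 0, 1, 0, 1, 0, 1, 0, 1, 0, 1, 0, 1, 0, 1] := by
    simp only [W_cons, W_nil, pow_succ, pow_zero, one_mul, mul_one, mul_assoc]
  rw [h]
  exact eqw_sound (v := []) (by decide +kernel)

theorem w01_pow_four : W [0, 1] ^ 4 ≠ 1 := by
  have h : W [0, 1] ^ 4 = W [0, 1, 0, 1, 0, 1, 0, 1] := by
    simp only [W_cons, W_nil, pow_succ, pow_zero, one_mul, mul_one, mul_assoc]
  rw [h]
  intro h
  have h1 : ((W [0, 1, 0, 1, 0, 1, 0, 1] : RuOrder.H) : Equiv.Perm (Fin 4060)) 0 = 0 := by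
    rw [h]
    rfl
  have h2 := congrArg Fin.val h1
  rw [W_apply] at h2
  have h3 : Nat.beq (ev [0, 1, 0, 1, 0, 1, 0, 1] 0) 0 = false := by decide +kernel
  exact Nat.ne_of_beq_eq_false h3 h2

theorem orderOf_w01 : orderOf (W [0, 1]) = 8 := by
  have : Fact (Nat.Prime 2) := ⟨Nat.prime_two⟩
  have h := orderOf_eq_prime_pow (p := 2) (n := 2) (x := W [0, 1]) (by norm_num; exact w01_pow_four)
    (by norm_num; exact w01_pow)
  rw [h]; norm_num

theorem ru {G : Type*} [Group G] [Finite G] (h : Spor.IsoRu G) : Core G := by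
  have hN := NotCT.Orders.ru h
  have he : ∃ x : G, orderOf x = 2 ^ 3 := by
    obtain ⟨e⟩ := h
    refine ⟨e.symm (RuLat.Main.equiv.symm (W [0, 1])), ?_⟩
    rw [MulEquiv.orderOf_eq, MulEquiv.orderOf_eq, orderOf_w01]
    norm_num
  refine core_two (r := 29) (b := 3) (K := 14) (by norm_num) (by norm_num) ?_ ?_ (H393.Iso.na_ru h) (by norm_num)
    he (by norm_num) ?_ (by decide +kernel)
  · rw [hN]; norm_num
  · rw [hN]; norm_num
  · rw [hN]; norm_num

end Cfsg.Agent.H478.SporRu
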