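import Cfsg.Agent.H478.SporCore
import Cfsg.Agent.SporRec.SuzNo143
import Cfsg.Agent.NotCT.Orders

/-!
# `Core` for `Suz` (helper478)
-/

set_option autoImplicit false

namespace Cfsg.Agent.H478.SporSuz

open Cfsg Subgroup Cfsg.Agent.H518.Dghp Cfsg.Agent.H478.SporCore

theorem suz {G : Type*} [Group G] [Finite G] (h : Spor.IsoSuz G) : Core G := by
  have hN := NotCT.Orders.suz h
  obtain ⟨e⟩ := h
  refine core_odd (r := 13) (s := 11) (K := 1) (L := 1) (by norm_num) (by norm_num) (by norm_num) ?_ ?_ ?_ ?_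
    (by decide +kernel) ?_ (by decide +kernel)
  · rw [hN]; norm_num
  · rw [hN]; norm_num
  · intro x y hx hy hc
    refine Cfsg.Agent.SporRec.SuzNo143.no143 (e x) (e y) (by rw [MulEquiv.orderOf_eq, hx])
      (by rw [MulEquiv.orderOf_eq, hy]) ?_
    rw [← map_mul, hc, map_mul]
  · rw [hN]; norm_num
  · rw [hN]; norm_num

end Cfsg.Agent.H478.SporSuz
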