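import Cfsg.Agent.H478.SporCore
import Cfsg.Agent.H478.ExistsFour
import Cfsg.Agent.H393.Iso.All

/-!
# `Core` for sporadic groups: an element of order 4 and an element of a large prime order (helper478)

M11, M12, M22, M23, M24, HS, McL, Co3, J3, HN, Th, Ly, O'N, M.
-/

set_option autoImplicit false

namespace Cfsg.Agent.H478.SporTwo

open Cfsg Subgroup Cfsg.Agent.H478.SporCore Cfsg.Agent.H478.ExistsFour Cfsg.Agent.H518.Dghp Cfsg.Agent.H393.Iso

variable {G : Type*} [Group G] [Finite G] [IsSimpleGroup G]

theorem core_of {N r K : ℕ} (hG : ¬ IsMulCommutative G) (hN : Nat.card G = N) (hna : NA r G) (hr : r.Prime)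
    (hr2 : r ≠ 2) (hrG : r ∣ N) (hr' : ¬ r ^ 2 ∣ N) (h4 : ¬ 4 ∣ r - 1) (h16 : 16 ∣ N) (hK : ¬ 2 ^ (K + 1) ∣ N)
    (hne : ∀ n ∈ List.range (K + 1), N ≠ 2 ^ n * ((2 ^ n) ^ 2 - 1))
    (hK' : ∀ k ∈ List.range (K + 1), 0 < k → ¬ r ∣ 2 ^ k - 1) : Core G := by
  subst hN
  exact core_two hr hr2 hrG hr' hna two_pos (exists_four hG h16 hK hne) h4 hK hK'

theorem m11 (hG : ¬ IsMulCommutative G) (h : Spor.IsoM11 G) : Core G :=
  core_of (r := 11) (K := 4) hG (NotCT.Orders.m11 h) (na_m11 h) (by norm_num) (by norm_num) (by norm_num)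
    (by norm_num) (by norm_num) (by norm_num) (by norm_num) (by decide +kernel) (by decide +kernel)

theorem m12 (hG : ¬ IsMulCommutative G) (h : Spor.IsoM12 G) : Core G :=
  core_of (r := 11) (K := 6) hG (NotCT.Orders.m12 h) (na_m12 h) (by norm_num) (by norm_num) (by norm_num)
    (by norm_num) (by norm_num) (by norm_num) (by norm_num) (by decide +kernel) (by decide +kernel)

theorem m22 (hG : ¬ IsMulCommutative G) (h : Spor.IsoM22 G) : Core G :=
  core_of (r := 11) (K := 7) hG (NotCT.Orders.m22 h) (na_m22 h) (by norm_num) (by norm_num) (by norm_num)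
    (by norm_num) (by norm_num) (by norm_num) (by norm_num) (by decide +kernel) (by decide +kernel)

theorem m23 (hG : ¬ IsMulCommutative G) (h : Spor.IsoM23 G) : Core G :=
  core_of (r := 23) (K := 7) hG (NotCT.Orders.m23 h) (na_m23 h) (by norm_num) (by norm_num) (by norm_num)
    (by norm_num) (by norm_num) (by norm_num) (by norm_num) (by decide +kernel) (by decide +kernel)

theorem m24 (hG : ¬ IsMulCommutative G) (h : Spor.IsoM24 G) : Core G :=
  core_of (r := 23) (K := 10) hG (NotCT.Orders.m24 h) (na_m24 h) (by norm_num) (by norm_num) (by norm_num)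
    (by norm_num) (by norm_num) (by norm_num) (by norm_num) (by decide +kernel) (by decide +kernel)

theorem hs (hG : ¬ IsMulCommutative G) (h : Spor.IsoHS G) : Core G :=
  core_of (r := 11) (K := 9) hG (NotCT.Orders.hs h) (na_hs h) (by norm_num) (by norm_num) (by norm_num)
    (by norm_num) (by norm_num) (by norm_num) (by norm_num) (by decide +kernel) (by decide +kernel)

theorem mcl (hG : ¬ IsMulCommutative G) (h : Spor.IsoMcL G) : Core G :=
  core_of (r := 11) (K := 7) hG (NotCT.Orders.mcl h) (na_mcl h) (by norm_num) (by norm_num) (by norm_num)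
    (by norm_num) (by norm_num) (by norm_num) (by norm_num) (by decide +kernel) (by decide +kernel)

theorem co3 (hG : ¬ IsMulCommutative G) (h : Spor.IsoCo3 G) : Core G :=
  core_of (r := 23) (K := 10) hG (NotCT.Orders.co3 h) (na_co3 h) (by norm_num) (by norm_num) (by norm_num)
    (by norm_num) (by norm_num) (by norm_num) (by norm_num) (by decide +kernel) (by decide +kernel)

theorem j3 (hG : ¬ IsMulCommutative G) (h : Spor.IsoJ3 G) : Core G :=
  core_of (r := 19) (K := 7) hG (NotCT.Orders.j3 h) (na_j3 h) (by norm_num) (by norm_num) (by norm_num)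
    (by norm_num) (by norm_num) (by norm_num) (by norm_num) (by decide +kernel) (by decide +kernel)

theorem hn (hG : ¬ IsMulCommutative G) (h : Spor.IsoHN G) : Core G :=
  core_of (r := 19) (K := 14) hG (NotCT.Orders.hn h) (na_hn h) (by norm_num) (by norm_num) (by norm_num)
    (by norm_num) (by norm_num) (by norm_num) (by norm_num) (by decide +kernel) (by decide +kernel)

theorem th (hG : ¬ IsMulCommutative G) (h : Spor.IsoTh G) : Core G :=
  core_of (r := 19) (K := 15) hG (NotCT.Orders.th h) (na_th h) (by norm_num) (by norm_num) (by norm_num)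
    (by norm_num) (by norm_num) (by norm_num) (by norm_num) (by decide +kernel) (by decide +kernel)

theorem ly (hG : ¬ IsMulCommutative G) (h : Spor.IsoLy G) : Core G :=
  core_of (r := 67) (K := 8) hG (NotCT.Orders.ly h) (na_ly h) (by norm_num) (by norm_num) (by norm_num)
    (by norm_num) (by norm_num) (by norm_num) (by norm_num) (by decide +kernel) (by decide +kernel)

theorem m (hG : ¬ IsMulCommutative G) (h : Spor.IsoM G) : Core G :=
  core_of (r := 59) (K := 46) hG (NotCT.Orders.m h) (na_m h (Or.inr (Or.inl rfl))) (by norm_num) (by norm_num)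
    (by norm_num) (by norm_num) (by norm_num) (by norm_num) (by norm_num) (by decide +kernel) (by decide +kernel)

/-! ### O'N -/

section
open Cfsg.Spor (ON)
open Cfsg.Spor.ON (Gen)
open Cfsg.Agent.SporadicB.ONHom Cfsg.Agent.SporadicB.ON45Word

theorem na_on_model [Finite ON] : NA 19 ON := by
  refine NA.of_isConj (fun s => s = on .f) (fun t ht ht1 => ⟨_, rfl, ?_⟩) ?_
  · exact (Cfsg.Agent.KFacts.ON.OneClass.one_class ht ht1).symm
  · rintro s rfl x hx hxs
    refine not_comm_of_card ?_ hx hxs
    rw [Cfsg.Agent.KFacts.ON.Cent.card_cent]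
    norm_num

end

theorem na_on {G : Type*} [Group G] [Finite G] (h : Spor.IsoON G) : NA 19 G :=
  h.elim fun e =>
    have := Finite.of_equiv G e.toEquiv
    na_on_model.of_equiv e.symm

theorem on (hG : ¬ IsMulCommutative G) (h : Spor.IsoON G) : Core G :=
  core_of (r := 19) (K := 9) hG (NotCT.Orders.on h) (na_on h) (by norm_num) (by norm_num) (by norm_num)
    (by norm_num) (by norm_num) (by norm_num) (by norm_num) (by decide +kernel) (by decide +kernel)

end Cfsg.Agent.H478.SporTwo
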