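import Cfsg.Agent.H777.Th3.OrbV
import Mathlib.Tactic.LinearCombination

/-!
# Cubes in the group of order `3 ^ 9` (helper478)

Left multiplication by the letters in normal form; the cosets of `U` in `T` containing elements of order three.
-/

set_option autoImplicit false
set_option linter.unusedSimpArgs false
set_option linter.unusedVariables false
set_option synthInstance.maxHeartbeats 400000
set_option synthInstance.maxSize 2000

namespace Cfsg.Agent.H478.ThThree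

open Cfsg.Agent.H777.Th3 Cfsg.Agent.H777.Th3.Dat

/-- partial sums -/
def pw (A : V5 → V5) (p : V5) : ℕ → V5
  | 0 => 0
  | n + 1 => pw A p n + A^[n] p

/-- normal forms of the elements of `T` -/
abbrev E := V5 × Q4

def P1 (a : ZMod 3) : V5 := pw (T (-1) 0 0 0) (2, 0, 1, 2, 0) a.val
def P2 (b : ZMod 3) : V5 := pw (T 0 (-1) 0 0) (1, 1, 0, 2, 1) b.val
def R1 (a : ZMod 3) : V5 := pw (T (-1) 0 0 0) (2, 1, 1, 0, 1) a.val
def R2 (b : ZMod 3) : V5 := pw (T 0 (-1) 0 0) (1, 0, 1, 1, 1) b.val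
def R3 (c : ZMod 3) : V5 := pw (T 0 0 (-1) 0) (0, 0, 2, 1, 2) c.val

def sv1 (x : E) : E := (T (-1) 0 0 0 x.1, x.2.1 + 1, x.2.2)
def sv2 (x : E) : E := (T 0 (-1) 0 0 x.1, x.2.1, x.2.2.1 + 1, x.2.2.2)
def sr1 (x : E) : E :=
  (T 0 0 (-1) 0 x.1 + (P1 x.2.1 + T (-x.2.1) 0 0 0 (P2 x.2.2.1)), x.2.1, x.2.2.1, x.2.2.2.1 + 1, x.2.2.2.2)
def sr2 (x : E) : E :=
  (T 0 0 0 (-1) x.1 + (R1 x.2.1 + T (-x.2.1) 0 0 0 (R2 x.2.2.1 + T 0 (-x.2.2.1) 0 0 (R3 x.2.2.2.1))) +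
    (if x.2.2.2.2 = 2 then (1, 0, 0, 0, 0) else 0), x.2.1, x.2.2.1, x.2.2.2.1, x.2.2.2.2 + 1)

/-- multiplication by a normal word -/
def ap (q : Q4) (x : E) : E := sv1^[q.1.val] (sv2^[q.2.1.val] (sr1^[q.2.2.1.val] (sr2^[q.2.2.2.val] x)))

/-- the cube of a normal word -/
def cub (q : Q4) : E := ap q (ap q (0, q))

/-- conjugate into `⟨v1, v2⟩` -/
def isN (q : Q4) : Bool :=
  (q.2.2 == (0, 0)) || ((sg q).2.2 == (0, 0)) || ((sg (sg q)).2.2 == (0, 0))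

/-- the other cosets -/
def isR (q : Q4) : Bool :=
  (q == (0, 0, 1, 0)) || (q == (0, 0, 2, 0)) || (q == (2, 0, 2, 1)) || (q == (1, 0, 1, 2)) ||
  (sg q == (2, 0, 2, 1)) || (sg q == (1, 0, 1, 2)) || (sg (sg q) == (2, 0, 2, 1)) || (sg (sg q) == (1, 0, 1, 2))

theorem dec_cub : ∀ q : Q4, ((cub q).2 = 0 ∧ (cub q).1 ≠ 0) ∨ isN q = true ∨ isR q = true := by
  decide +kernel

section

variable {G : Type*} [Group G] (D : Dat G)

/-- the element of a normal form -/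
def nf (x : E) : G := D.uu x.1 * D.w4 x.2.1 x.2.2.1 x.2.2.2.1 x.2.2.2.2

variable {D}

/-- `s` acts on the left as `A` -/
def LAct (D : Dat G) (s : G) (A : V5 → V5) : Prop := ∀ e, s * D.uu e = D.uu (A e) * s

theorem LAct.pow {s : G} {A : V5 → V5} (h : LAct D s A) (n : ℕ) : LAct D (s ^ n) (A^[n]) := by
  induction n with
  | zero => intro e; simp
  | succ n ih =>
    intro e
    rw [pow_succ, mul_assoc, h e, ← mul_assoc, ih, Function.iterate_succ_apply, mul_assoc]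

theorem lact_of {s : G} {a b c d : ZMod 3} (h : D.Act s (T a b c d)) : LAct D s (T (-a) (-b) (-c) (-d)) := by
  intro e
  have h1 := h (T (-a) (-b) (-c) (-d) e)
  rw [T_T] at h1
  have h2 : T (a + -a) (b + -b) (c + -c) (d + -d) e = e := by
    rw [add_neg_cancel, add_neg_cancel, add_neg_cancel, add_neg_cancel, T_zero]
  rw [h2] at h1
  rw [← h1]
  group

theorem lv1 : LAct D D.v1 (T (-1) 0 0 0) := by
  have h := lact_of (act_v1 (D := D))
  simpa only [neg_zero] using h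
theorem lv2 : LAct D D.v2 (T 0 (-1) 0 0) := by
  have h := lact_of (act_v2 (D := D))
  simpa only [neg_zero] using h
theorem lr1 : LAct D D.r1 (T 0 0 (-1) 0) := by
  have h := lact_of (act_r1 (D := D))
  simpa only [neg_zero] using h
theorem lr2 : LAct D D.r2 (T 0 0 0 (-1)) := by
  have h := lact_of (act_r2 (D := D))
  simpa only [neg_zero] using h

theorem lv1p (a : ZMod 3) : LAct D (D.v1 ^ a.val) (T (-a) 0 0 0) := by
  have h := lact_of ((act_v1 (D := D)).powT a.val)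
  simpa using h
theorem lv2p (a : ZMod 3) : LAct D (D.v2 ^ a.val) (T 0 (-a) 0 0) := by
  have h := lact_of ((act_v2 (D := D)).powT a.val)
  simpa using h
theorem lr1p (a : ZMod 3) : LAct D (D.r1 ^ a.val) (T 0 0 (-a) 0) := by
  have h := lact_of ((act_r1 (D := D)).powT a.val)
  simpa using h

/-- collection of a power -/
theorem comm_pow {r v : G} {A : V5 → V5} {p : V5} (hv : LAct D v A) (h : r * v = D.uu p * v * r) (n : ℕ) :
    r * v ^ n = D.uu (pw A p n) * v ^ n * r := by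
  induction n with
  | zero => simp [pw, uu_zero]
  | succ n ih =>
    calc r * v ^ (n + 1) = (r * v ^ n) * v := by rw [pow_succ, mul_assoc]
      _ = D.uu (pw A p n) * v ^ n * (r * v) := by rw [ih]; simp only [mul_assoc]
      _ = D.uu (pw A p n) * (v ^ n * D.uu p) * v * r := by rw [h]; simp only [mul_assoc]
      _ = D.uu (pw A p n) * D.uu (A^[n] p) * (v ^ n * v) * r := by rw [hv.pow n p]; simp only [mul_assoc]
      _ = D.uu (pw A p (n + 1)) * v ^ (n + 1) * r := by rw [← uu_add, ← pow_succ]; rfl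

theorem comm_of {r v : G} {a : V5} {A : V5 → V5} (hr : LAct D r A) (h : v * r = r * D.uu a * v) :
    r * v = D.uu (-A a) * v * r := by
  rw [uu_neg]
  rw [mul_assoc, h, hr a]
  group

theorem r1v1 : D.r1 * D.v1 = D.uu (2, 0, 1, 2, 0) * D.v1 * D.r1 := by
  have h := comm_of (a := (2, 0, 2, 1, 0)) (lr1 (D := D)) (v := D.v1) (by
    rw [D.j_v1_r1]
    simp only [uu, ZMod.val_one, ZMod.val_zero, val_two, pow_one, pow_zero, mul_one, one_mul, mul_assoc])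
  rw [h]
  congr 3

theorem r1v2 : D.r1 * D.v2 = D.uu (1, 1, 0, 2, 1) * D.v2 * D.r1 := by
  have h := comm_of (a := (1, 2, 0, 1, 2)) (lr1 (D := D)) (v := D.v2) (by
    rw [D.j_v2_r1]
    simp only [uu, ZMod.val_one, ZMod.val_zero, val_two, pow_one, pow_zero, mul_one, one_mul, mul_assoc])
  rw [h]
  congr 3

theorem r2v1 : D.r2 * D.v1 = D.uu (2, 1, 1, 0, 1) * D.v1 * D.r2 := by
  have h := comm_of (a := (2, 2, 2, 0, 2)) (lr2 (D := D)) (v := D.v1) (by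
    rw [D.j_v1_r2]
    simp only [uu, ZMod.val_one, ZMod.val_zero, val_two, pow_one, pow_zero, mul_one, one_mul, mul_assoc])
  rw [h]
  congr 3

theorem r2v2 : D.r2 * D.v2 = D.uu (1, 0, 1, 1, 1) * D.v2 * D.r2 := by
  have h := comm_of (a := (1, 0, 2, 2, 2)) (lr2 (D := D)) (v := D.v2) (by
    rw [D.j_v2_r2]
    simp only [uu, ZMod.val_one, ZMod.val_zero, val_two, pow_one, pow_zero, mul_one, one_mul, mul_assoc])
  rw [h]
  congr 3

theorem r2r1 : D.r2 * D.r1 = D.uu (0, 0, 2, 1, 2) * D.r1 * D.r2 := by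
  have h := comm_of (a := (0, 0, 1, 2, 1)) (lr2 (D := D)) (v := D.r1) (by
    rw [D.j_r1_r2]
    simp only [uu, ZMod.val_one, ZMod.val_zero, val_two, pow_one, pow_zero, mul_one, one_mul, mul_assoc])
  rw [h]
  congr 3

theorem r1_v1p (a : ZMod 3) : D.r1 * D.v1 ^ a.val = D.uu (P1 a) * D.v1 ^ a.val * D.r1 := comm_pow lv1 r1v1 _
theorem r1_v2p (a : ZMod 3) : D.r1 * D.v2 ^ a.val = D.uu (P2 a) * D.v2 ^ a.val * D.r1 := comm_pow lv2 r1v2 _
theorem r2_v1p (a : ZMod 3) : D.r2 * D.v1 ^ a.val = D.uu (R1 a) * D.v1 ^ a.val * D.r2 := comm_pow lv1 r2v1 _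
theorem r2_v2p (a : ZMod 3) : D.r2 * D.v2 ^ a.val = D.uu (R2 a) * D.v2 ^ a.val * D.r2 := comm_pow lv2 r2v2 _
theorem r2_r1p (a : ZMod 3) : D.r2 * D.r1 ^ a.val = D.uu (R3 a) * D.r1 ^ a.val * D.r2 := comm_pow lr1 r2r1 _

theorem nf_sv1 (x : E) : nf D (sv1 x) = D.v1 * nf D x := by
  obtain ⟨e, a, b, c, d⟩ := x
  show D.uu (T (-1) 0 0 0 e) * (D.v1 ^ (a + 1).val * D.v2 ^ b.val * D.r1 ^ c.val * D.r2 ^ d.val) =
    D.v1 * (D.uu e * (D.v1 ^ a.val * D.v2 ^ b.val * D.r1 ^ c.val * D.r2 ^ d.val))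
  rw [← mul_assoc D.v1, lv1 e, add_comm a 1, pw_add D.p_v1, ZMod.val_one, pow_one]
  simp only [mul_assoc]

theorem nf_sv2 (x : E) : nf D (sv2 x) = D.v2 * nf D x := by
  obtain ⟨e, a, b, c, d⟩ := x
  show D.uu (T 0 (-1) 0 0 e) * (D.v1 ^ a.val * D.v2 ^ (b + 1).val * D.r1 ^ c.val * D.r2 ^ d.val) =
    D.v2 * (D.uu e * (D.v1 ^ a.val * D.v2 ^ b.val * D.r1 ^ c.val * D.r2 ^ d.val))
  have hc : D.v2 * D.v1 ^ a.val = D.v1 ^ a.val * D.v2 :=
    ((show Commute D.v1 D.v2 from D.j_v1_v2).pow_left _).eq.symm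
  rw [← mul_assoc D.v2, lv2 e, add_comm b 1, pw_add D.p_v2, ZMod.val_one, pow_one]
  calc D.uu (T 0 (-1) 0 0 e) * (D.v1 ^ a.val * (D.v2 * D.v2 ^ b.val) * D.r1 ^ c.val * D.r2 ^ d.val) =
      D.uu (T 0 (-1) 0 0 e) * ((D.v1 ^ a.val * D.v2) * (D.v2 ^ b.val * D.r1 ^ c.val * D.r2 ^ d.val)) := by
        simp only [mul_assoc]
    _ = _ := by rw [← hc]; simp only [mul_assoc]

theorem nf_sr1 (x : E) : nf D (sr1 x) = D.r1 * nf D x := by
  obtain ⟨e, a, b, c, d⟩ := x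
  show D.uu (T 0 0 (-1) 0 e + (P1 a + T (-a) 0 0 0 (P2 b))) *
    (D.v1 ^ a.val * D.v2 ^ b.val * D.r1 ^ (c + 1).val * D.r2 ^ d.val) =
    D.r1 * (D.uu e * (D.v1 ^ a.val * D.v2 ^ b.val * D.r1 ^ c.val * D.r2 ^ d.val))
  rw [add_comm c 1, pw_add D.p_r1, ZMod.val_one, pow_one]
  symm
  calc D.r1 * (D.uu e * (D.v1 ^ a.val * D.v2 ^ b.val * D.r1 ^ c.val * D.r2 ^ d.val))
      = (D.r1 * D.uu e) * D.v1 ^ a.val * D.v2 ^ b.val * (D.r1 ^ c.val * D.r2 ^ d.val) := by simp only [mul_assoc]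
    _ = D.uu (T 0 0 (-1) 0 e) * (D.r1 * D.v1 ^ a.val) * D.v2 ^ b.val * (D.r1 ^ c.val * D.r2 ^ d.val) := by
        rw [lr1 e]; simp only [mul_assoc]
    _ = D.uu (T 0 0 (-1) 0 e) * D.uu (P1 a) * D.v1 ^ a.val * (D.r1 * D.v2 ^ b.val) * (D.r1 ^ c.val * D.r2 ^ d.val) := by
        rw [r1_v1p]; simp only [mul_assoc]
    _ = D.uu (T 0 0 (-1) 0 e) * D.uu (P1 a) * (D.v1 ^ a.val * D.uu (P2 b)) * D.v2 ^ b.val * D.r1 *
        (D.r1 ^ c.val * D.r2 ^ d.val) := by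
        rw [r1_v2p]; simp only [mul_assoc]
    _ = D.uu (T 0 0 (-1) 0 e) * (D.uu (P1 a) * D.uu (T (-a) 0 0 0 (P2 b))) * D.v1 ^ a.val * D.v2 ^ b.val * D.r1 *
        (D.r1 ^ c.val * D.r2 ^ d.val) := by
        rw [lv1p a]; simp only [mul_assoc]
    _ = _ := by rw [← uu_add, ← uu_add]; simp only [mul_assoc]

theorem r2_carry (d : ZMod 3) : D.r2 * D.r2 ^ d.val = D.uu (if d = 2 then (1, 0, 0, 0, 0) else 0) * D.r2 ^ (d + 1).val := by
  by_cases h : d = 2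
  · subst h
    rw [if_pos rfl, uu_1]
    show D.r2 * D.r2 ^ 2 = D.u1 * D.r2 ^ 0
    rw [← pow_succ', D.p_r2, pow_zero, mul_one]
  · rw [if_neg h, uu_zero, one_mul, ← pow_succ']
    congr 1
    revert h
    revert d
    decide

theorem w4_u1 (a b c : ZMod 3) (d : ℕ) : D.v1 ^ a.val * D.v2 ^ b.val * D.r1 ^ c.val * D.uu (if d = 2 then (1, 0, 0, 0, 0) else 0) =
    D.uu (if d = 2 then (1, 0, 0, 0, 0) else 0) * (D.v1 ^ a.val * D.v2 ^ b.val * D.r1 ^ c.val) := by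
  have h := lact_of (act_w4 (D := D) a b c 0)
  have e : D.w4 a b c 0 = D.v1 ^ a.val * D.v2 ^ b.val * D.r1 ^ c.val := by simp [w4]
  rw [e] at h
  rw [h]
  congr 2
  by_cases hd : d = 2
  · rw [if_pos hd]; simp [T]
  · rw [if_neg hd]; simp [T]

theorem nf_sr2 (x : E) : nf D (sr2 x) = D.r2 * nf D x := by
  obtain ⟨e, a, b, c, d⟩ := x
  show D.uu (T 0 0 0 (-1) e + (R1 a + T (-a) 0 0 0 (R2 b + T 0 (-b) 0 0 (R3 c))) +
      (if d = 2 then (1, 0, 0, 0, 0) else 0)) *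
    (D.v1 ^ a.val * D.v2 ^ b.val * D.r1 ^ c.val * D.r2 ^ (d + 1).val) =
    D.r2 * (D.uu e * (D.v1 ^ a.val * D.v2 ^ b.val * D.r1 ^ c.val * D.r2 ^ d.val))
  symm
  have hw : D.v1 ^ a.val * D.v2 ^ b.val * D.r1 ^ c.val * D.uu (if d = 2 then (1, 0, 0, 0, 0) else 0) =
    D.uu (if d = 2 then (1, 0, 0, 0, 0) else 0) * (D.v1 ^ a.val * D.v2 ^ b.val * D.r1 ^ c.val) := by
    have h := w4_u1 (D := D) a b c (if d = 2 then 2 else 0)
    by_cases hd : d = 2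
    · rw [if_pos hd] at h ⊢
      exact h
    · rw [if_neg hd] at h ⊢
      simpa using h
  calc D.r2 * (D.uu e * (D.v1 ^ a.val * D.v2 ^ b.val * D.r1 ^ c.val * D.r2 ^ d.val))
      = (D.r2 * D.uu e) * D.v1 ^ a.val * D.v2 ^ b.val * (D.r1 ^ c.val * D.r2 ^ d.val) := by simp only [mul_assoc]
    _ = D.uu (T 0 0 0 (-1) e) * (D.r2 * D.v1 ^ a.val) * D.v2 ^ b.val * (D.r1 ^ c.val * D.r2 ^ d.val) := by
        rw [lr2 e]; simp only [mul_assoc]
    _ = D.uu (T 0 0 0 (-1) e) * D.uu (R1 a) * D.v1 ^ a.val * (D.r2 * D.v2 ^ b.val) * (D.r1 ^ c.val * D.r2 ^ d.val) := by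
        rw [r2_v1p]; simp only [mul_assoc]
    _ = D.uu (T 0 0 0 (-1) e) * D.uu (R1 a) * D.v1 ^ a.val * D.uu (R2 b) * D.v2 ^ b.val *
        (D.r2 * D.r1 ^ c.val) * D.r2 ^ d.val := by
        rw [r2_v2p]; simp only [mul_assoc]
    _ = D.uu (T 0 0 0 (-1) e) * D.uu (R1 a) * D.v1 ^ a.val * D.uu (R2 b) * (D.v2 ^ b.val *
        D.uu (R3 c)) * D.r1 ^ c.val * (D.r2 * D.r2 ^ d.val) := by
        rw [r2_r1p]; simp only [mul_assoc]
    _ = D.uu (T 0 0 0 (-1) e) * D.uu (R1 a) * (D.v1 ^ a.val * (D.uu (R2 b) * D.uu (T 0 (-b) 0 0 (R3 c)))) *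
        D.v2 ^ b.val * D.r1 ^ c.val * (D.r2 * D.r2 ^ d.val) := by
        rw [lv2p b]; simp only [mul_assoc]
    _ = D.uu (T 0 0 0 (-1) e) * (D.uu (R1 a) * D.uu (T (-a) 0 0 0 (R2 b + T 0 (-b) 0 0 (R3 c)))) *
        (D.v1 ^ a.val * D.v2 ^ b.val * D.r1 ^ c.val * (D.uu (if d = 2 then (1, 0, 0, 0, 0) else 0)) * D.r2 ^ (d + 1).val) := by
        rw [← D.uu_add (R2 b), lv1p a, r2_carry]; simp only [mul_assoc]
    _ = _ := by
        rw [hw, ← D.uu_add, ← D.uu_add,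
          D.uu_add (T 0 0 0 (-1) e + (R1 a + T (-a) 0 0 0 (R2 b + T 0 (-b) 0 0 (R3 c)))) (if d = 2 then (1, 0, 0, 0, 0) else 0)]
        simp only [mul_assoc]

theorem nf_iter {f : E → E} {g : G} (h : ∀ x, nf D (f x) = g * nf D x) (n : ℕ) (x : E) :
    nf D (f^[n] x) = g ^ n * nf D x := by
  induction n with
  | zero => simp
  | succ n ih => rw [Function.iterate_succ_apply', h, ih, pow_succ', mul_assoc]

theorem nf_ap (q : Q4) (x : E) : nf D (ap q x) = D.w4 q.1 q.2.1 q.2.2.1 q.2.2.2 * nf D x := by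
  unfold ap
  rw [nf_iter nf_sv1, nf_iter nf_sv2, nf_iter nf_sr1, nf_iter nf_sr2]
  unfold w4
  simp only [mul_assoc]

theorem nf_cub (q : Q4) : nf D (cub q) = (D.w4 q.1 q.2.1 q.2.2.1 q.2.2.2) ^ 3 := by
  unfold cub
  rw [nf_ap, nf_ap]
  have : nf D (0, q) = D.w4 q.1 q.2.1 q.2.2.1 q.2.2.2 := by
    show D.uu 0 * _ = _
    rw [uu_zero, one_mul]
  rw [this, pow_succ, pow_two, mul_assoc]

theorem sum_T : ∀ (q : Q4) (e : V5), e + Tq q e + Tq q (Tq q e) = 0 := by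
  intro q e
  obtain ⟨a, b, c, d⟩ := q
  obtain ⟨e1, e2, e3, e4, e5⟩ := e
  have h3 : (3 : ZMod 3) = 0 := rfl
  simp only [Tq, T, Prod.mk_add_mk, Prod.mk_eq_zero]
  refine ⟨?_, ?_, ?_, ?_, ?_⟩
  · linear_combination (e1 + (2 * a * (e4 + e5) + b * e5 + c * (2 * e3 + e5) + d * (2 * e3 + 2 * e4))) * h3
  · linear_combination (e2 + (2 * a * e5 + b * (e4 + 2 * e5) + d * (2 * e3 + e5))) * h3
  · linear_combination e3 * h3
  · linear_combination e4 * h3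
  · linear_combination e5 * h3

/-- the cube of an element of `T` depends only on its coset -/
theorem cube_eq {x w : G} {e : V5} {q : Q4} (hw : D.Act w (Tq q)) (hx : x = D.uu e * w) : x ^ 3 = w ^ 3 := by
  have h1 : LAct D w (Tq (-q)) := lact_of hw
  rw [hx]
  calc (D.uu e * w) ^ 3 = D.uu e * (w * D.uu e) * (w * D.uu e) * w := by
        simp only [pow_succ, pow_zero, one_mul, mul_assoc]
    _ = D.uu e * D.uu (Tq (-q) e) * (w * D.uu (Tq (-q) e)) * w * w := by rw [h1 e]; simp only [mul_assoc]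
    _ = D.uu (e + Tq (-q) e + Tq (-q) (Tq (-q) e)) * w ^ 3 := by
        rw [h1 (Tq (-q) e), D.uu_add, D.uu_add]
        simp only [pow_succ, pow_zero, one_mul, mul_assoc]
    _ = w ^ 3 := by rw [sum_T, uu_zero, one_mul]

/-- **the cosets with elements of order three** -/
theorem cases (h1 : D.u1 ≠ 1) {x : G} (hx : x ∈ D.Tg) (h3 : x ^ 3 = 1) : isN (D.qT x) = true ∨ isR (D.qT x) = true := by
  obtain ⟨e, a, b, c, d, rfl⟩ := (D.mem_Tg).1 hx
  rw [qT_w4 h1]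
  rcases dec_cub (a, b, c, d) with ⟨hc, hne⟩ | h
  · exfalso
    have h4 := cube_eq (q := (a, b, c, d)) (act_w4 (D := D) a b c d) (x := D.uu e * D.w4 a b c d) rfl
    rw [h3] at h4
    have h5 := nf_cub (D := D) (a, b, c, d)
    rw [← h4] at h5
    apply hne
    apply uu_injective h1
    rw [uu_zero]
    have h6 : nf D (cub (a, b, c, d)) = D.uu (cub (a, b, c, d)).1 := by
      unfold nf
      rw [hc]
      simp [w4]
    rw [← h6, h5]
  · exact h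

end

end Cfsg.Agent.H478.ThThree
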